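import Groth.Agent.HDU.TowerLimit
import Groth.Prelude.Def_WeakSerre
import Mathlib.Data.Int.Interval

/-!
Derived limits of systems with eventually constant cohomology.
-/

set_option autoImplicit false
set_option linter.style.haveILetI false
set_option linter.unusedSectionVars false
set_option backward.isDefEq.respectTransparency false
set_option backward.isDefEq.respectTransparency.types false

universe w u

open CategoryTheory Category Limits Opposite Pretriangulated DerivedCategory DerivedCategory.TStructure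

namespace Groth.Agent.HDU

variable {A : Type (u + 1)} [Category.{u} A] [Abelian A] {C : Type u} [SmallCategory C]
  {J : GrothendieckTopology C} (D : SecData A J) [HasDerivedCategory.{w} A]

local notation "Hd" => DerivedCategory.homologyFunctor A

/-- a bounded below object with vanishing in the relevant degrees has no hypercohomology -/
lemma subsingleton_HG_of_bounded (k : ℤ) (U : C) : ∀ (e : ℕ) (M : DerivedCategory A),
    M.IsGE (k + 1 - e) →
    (∀ i : ℤ, i ≤ k → D.Van ((Hd i).obj M) (k - i) U) →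
    Subsingleton (D.HG M k U)
  | 0, M, hM, _ => by
    have : M.IsGE (k + 1) := by simpa using hM
    refine subsingleton_of_forall_eq 0 fun x => ?_
    exact TStructure.t.zero_of_isLE_of_isGE x 0 1 (by omega)
      (inferInstanceAs (((DerivedCategory.singleFunctor A 0).obj (D.P U)).IsLE 0))
      (TStructure.t.isGE_shift M (k + 1) k 1 (by omega))
  | e + 1, M, hM, hv => by
    have hM' : ((t.truncGE (k + 1 - e)).obj M).IsGE (k + 1 - e) := isGE_truncGE M _
    have hrec : Subsingleton (D.HG ((t.truncGE (k + 1 - e)).obj M) k U) :=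
      subsingleton_HG_of_bounded k U e _ hM' fun i hi => by
        rcases le_or_gt (k + 1 - (e : ℤ)) i with h | h
        · have := isIso_H_truncGEπ M (k + 1 - e) i h
          exact D.van_iso (asIso ((Hd i).map ((t.truncGEπ (k + 1 - e)).app M))) _ U (hv i hi)
        · refine subsingleton_of_forall_eq 0 fun x => ?_
          exact (((shiftFunctor (DerivedCategory A) (k - i)).map_isZero
            ((DerivedCategory.singleFunctor A 0).map_isZero
              (isZero_of_isGE _ (k + 1 - (e : ℤ)) i h)))).eq_of_tgt _ _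
    have hs : ((t.truncGE (k + 1 - e)).obj M).IsGE (k + 1 - ((e + 1 : ℕ) : ℤ) + 1) := by
      rwa [show k + 1 - ((e + 1 : ℕ) : ℤ) + 1 = k + 1 - e by omega]
    have h1 := injective_comp ((t.truncGEπ (k + 1 - e)).app M) (k + 1 - ((e + 1 : ℕ) : ℤ)) hM hs
      (fun i hi => isIso_H_truncGEπ M _ i (by omega)) (P := D.P U) k (hv _ (by omega))
    exact h1.subsingleton

lemma injective_comp_cone {M M' Z : DerivedCategory A} {f : M ⟶ M'} {g : M' ⟶ Z} {h : Z ⟶ M⟦(1 : ℤ)⟧}
    (hT : Triangle.mk f g h ∈ distTriang (DerivedCategory A)) (j : ℤ) (U : C)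
    (hZ : Subsingleton (D.HG Z (j - 1) U)) (x : D.HG M j U) (hx : x ≫ f⟦j⟧' = 0) : x = 0 := by
  have h1 : Subsingleton ((DerivedCategory.singleFunctor A 0).obj (D.P U) ⟶ (Z⟦(-1 : ℤ)⟧)⟦j⟧) :=
    (((shiftFunctorAdd' (DerivedCategory A) (-1) j (j - 1) (by omega)).app Z).symm.homToEquiv).subsingleton
  obtain ⟨z, hz⟩ := Triangle.coyoneda_exact₂ _
    (Triangle.shift_distinguished _ (inv_rot_of_distTriang _ hT) j) x (by
      change x ≫ (j.negOnePow • f⟦j⟧') = 0
      rw [Linear.comp_units_smul, hx, smul_zero])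
  rw [hz]
  convert! zero_comp
  exact h1.elim _ _

lemma surjective_comp_cone {M M' Z : DerivedCategory A} {f : M ⟶ M'} {g : M' ⟶ Z} {h : Z ⟶ M⟦(1 : ℤ)⟧}
    (hT : Triangle.mk f g h ∈ distTriang (DerivedCategory A)) (j : ℤ) (U : C)
    (hZ : Subsingleton (D.HG Z j U)) :
    Function.Surjective (fun x : D.HG M j U => x ≫ f⟦j⟧') := by
  intro y
  obtain ⟨z, hz⟩ := Triangle.coyoneda_exact₂ _ (Triangle.shift_distinguished _ hT j) y (hZ.elim _ _)
  change y = z ≫ (j.negOnePow • f⟦j⟧') at hz
  refine ⟨j.negOnePow • z, ?_⟩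
  change (j.negOnePow • z) ≫ f⟦j⟧' = y
  rw [hz, Linear.units_smul_comp, Linear.comp_units_smul]

variable [IsGrothendieckAbelian.{u} A] (P : ObjectProperty A) [WSerre.IsWeakSerre P]

/-- derived limits of systems with eventually constant cohomology -/
theorem isIso_homology_of_eventually_constant (B : Set C)
    (hB : ∀ U : C, ∃ (ι : Type u) (Y : ι → C) (g : ∀ i, Y i ⟶ U), Sieve.ofArrows Y g ∈ J U ∧ ∀ i, Y i ∈ B)
    (hA : ∀ V ∈ B, ∃ d : ℕ, ∀ T ∈ J V, ∃ (ι : Type u) (Y : ι → C) (g : ∀ i, Y i ⟶ V),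
      (∀ i, T.arrows (g i)) ∧ Sieve.ofArrows Y g ∈ J V ∧
      ∀ (i : ι) (F : A), P F → ∀ k : ℕ, d < k → D.Van F (k : ℤ) (Y i))
    (K : ℕ → DerivedCategory A) (t : ∀ n, K (n + 1) ⟶ K n) [HasProduct K]
    (hK : ∀ n, WSerre.cohInPlus P (K n))
    (hconst : ∀ j : ℤ, ∃ n₀ : ℕ, ∀ n, n₀ ≤ n → IsIso ((Hd j).map (t n)))
    (L : DerivedCategory A) (a : ∀ n, L ⟶ K n) (hL : CohCx.IsRlimVia K t L a) (j : ℤ) :
    ∃ n₀ : ℕ, ∀ n, n₀ ≤ n → IsIso ((Hd j).map (a n)) := by
  choose c hc using hconst
  have htr : ∀ n, c j ≤ n → ∀ k, IsIso ((Hd j).map (CohCx.transition K t n k)) := fun n hn k => by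
    induction k with
    | zero => rw [CohCx.transition]; erw [CategoryTheory.Functor.map_id]; infer_instance
    | succ k ih =>
      rw [CohCx.transition, Functor.map_comp]
      have := ih
      have := hc j (n + k) (by omega)
      infer_instance
  -- uniform bounds on finite ranges of degrees
  let bound : ℕ → ℕ := fun d => (Finset.Icc (j - 1 - (d : ℤ)) (j + 1)).sup c ⊔ c j
  have hcone : ∀ (d : ℕ) (V : C), (∀ (F : A), P F → ∀ k : ℕ, d < k → D.Van F (k : ℤ) V) →
      ∀ n, bound d ≤ n → ∀ (Z : DerivedCategory A) (g : K n ⟶ Z) (h : Z ⟶ (K (n + 1))⟦(1 : ℤ)⟧),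
        Triangle.mk (t n) g h ∈ distTriang (DerivedCategory A) →
        Subsingleton (D.HG Z (j - 1) V) ∧ Subsingleton (D.HG Z j V) := by
    intro d V hV n hn Z g h hT
    have hbd : ∀ i, i ∈ Finset.Icc (j - 1 - (d : ℤ)) (j + 1) → c i ≤ n := fun i hi =>
      (le_trans (Finset.le_sup hi) le_sup_left).trans hn
    have hz : ∀ i, j - 1 - (d : ℤ) ≤ i → i ≤ j → IsZero ((Hd i).obj Z) := fun i h1 h2 => by
      have := hc i n (hbd i (Finset.mem_Icc.2 ⟨by omega, by omega⟩))
      have := hc (i + 1) n (hbd (i + 1) (Finset.mem_Icc.2 ⟨by omega, by omega⟩))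
      refine (HomologySequence.exact₃ _ hT i (i + 1) rfl).isZero_of_both_zeros ?_ ?_
      · rw [← cancel_epi ((Hd i).map (t n)), comp_zero, ← Functor.map_comp]
        exact ((Hd i).congr_map (comp_distTriang_mor_zero₁₂ _ hT)).trans (Functor.map_zero _ _ _)
      · rw [← cancel_mono ((Hd (i + 1)).map (t n)), zero_comp]
        exact HomologySequence.δ_comp _ hT i (i + 1) rfl
    have hP : WSerre.cohIn P Z := (WayOut.stable_cohIn P).ext _ (rot_of_distTriang _ hT) (hK n).1
      ((WayOut.stable_cohIn P).shift 1 (hK (n + 1)).1)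
    obtain ⟨a₁, ha₁⟩ := (hK n).2
    obtain ⟨a₂, ha₂⟩ := (hK (n + 1)).2
    have hGE : ∃ a₀ : ℤ, Z.IsGE a₀ := ⟨min a₁ (a₂ - 1), (isGE_iff _ _).2 fun i hi => by
      refine (HomologySequence.exact₃ _ hT i (i + 1) rfl).isZero_of_both_zeros ?_ ?_
      · have : (K n).IsGE a₁ := ha₁
        exact (isZero_of_isGE (K n) a₁ i (by omega)).eq_of_src _ _
      · have : (K (n + 1)).IsGE a₂ := ha₂
        exact (isZero_of_isGE (K (n + 1)) a₂ (i + 1) (by omega)).eq_of_tgt _ _⟩
    obtain ⟨a₀, ha₀⟩ := hGE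
    have main : ∀ k, j - 1 ≤ k → k ≤ j → Subsingleton (D.HG Z k V) := fun k hk1 hk2 => by
      refine subsingleton_HG_of_bounded D k V (k + 1 - a₀).toNat Z
        (TStructure.t.isGE_of_ge Z _ a₀ (by omega)) fun i hi => ?_
      rcases le_or_gt (j - 1 - (d : ℤ)) i with hlow | hlow
      · refine subsingleton_of_forall_eq 0 fun x => ?_
        exact (((shiftFunctor (DerivedCategory A) (k - i)).map_isZero
          ((DerivedCategory.singleFunctor A 0).map_isZero (hz i hlow (by omega))))).eq_of_tgt _ _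
      · obtain ⟨m, hm⟩ : ∃ m : ℕ, k - i = (m : ℤ) := ⟨(k - i).toNat, by omega⟩
        rw [hm]
        exact hV _ (hP i) m (by omega)
    exact ⟨main (j - 1) le_rfl (by omega), main j (by omega) le_rfl⟩
  have hstep : ∀ (d : ℕ) (V : C), (∀ (F : A), P F → ∀ k : ℕ, d < k → D.Van F (k : ℤ) V) →
      ∀ n, bound d ≤ n →
        Function.Injective (fun x : D.HG (K (n + 1)) j V => x ≫ (t n)⟦j⟧') ∧
        Function.Surjective (fun x : D.HG (K (n + 1)) (j - 1) V => x ≫ (t n)⟦j - 1⟧') ∧
        Function.Surjective (fun x : D.HG (K (n + 1)) j V => x ≫ (t n)⟦j⟧') := by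
    intro d V hV n hn
    obtain ⟨Z, g, h, hT⟩ := distinguished_cocone_triangle (t n)
    obtain ⟨h1, h2⟩ := hcone d V hV n hn Z g h hT
    refine ⟨fun x y hxy => ?_, surjective_comp_cone D hT (j - 1) V h1, surjective_comp_cone D hT j V h2⟩
    rw [← sub_eq_zero]
    exact injective_comp_cone D hT j V h1 _ (by rw [Preadditive.sub_comp]; exact sub_eq_zero.2 hxy)
  -- it is enough to treat one index
  refine ⟨c j, fun n hn => ?_⟩
  suffices h : IsIso ((Hd j).map (a (c j))) by
    obtain ⟨k, rfl⟩ := Nat.exists_eq_add_of_le hn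
    have := htr (c j) le_rfl k
    have e : (Hd j).map (a (c j + k)) ≫ (Hd j).map (CohCx.transition K t (c j) k) = (Hd j).map (a (c j)) := by
      rw [← Functor.map_comp, comp_transition hL]
    exact IsIso.of_isIso_fac_right e
  let φ := D.Φ.map ((Hd j).map (a (c j)))
  have hfac : ∀ N, c j ≤ N → ∀ (U : C) (γ : (D.HS L j).obj.obj (op U)),
      φ.hom.app (op U) γ = 0 → (D.Φ.map ((Hd j).map (a N))).hom.app (op U) γ = 0 := by
    intro N hN U γ hγ
    obtain ⟨k, rfl⟩ := Nat.exists_eq_add_of_le hN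
    have := htr (c j) le_rfl k
    refine (sections_map_bijective D ((Hd j).map (CohCx.transition K t (c j) k)) U).1 ?_
    have h : D.Φ.map ((Hd j).map (a (c j + k))) ≫ D.Φ.map ((Hd j).map (CohCx.transition K t (c j) k)) = φ := by
      simp only [φ]
      rw [← Functor.map_comp, ← Functor.map_comp, comp_transition hL]
    rw [map_zero, ← hγ, ← h]
    rfl
  have hmono : Mono φ := by
    refine (sheafToPresheaf J AddCommGrpCat.{u}).mono_of_mono_map ?_
    refine @NatTrans.mono_of_mono_app _ _ _ _ _ _ _ fun U => ?_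
    refine (AddCommGrpCat.mono_iff_injective _).2 ((injective_iff_map_eq_zero _).mpr fun γ hγ => ?_)
    obtain ⟨ι, Z, f, hcov, hZ⟩ := hB U.unop
    refine D.eq_zero_of_cover L j γ hcov fun W g hg => ?_
    obtain ⟨_, b, e, ⟨i⟩, hg'⟩ := hg
    obtain ⟨d, hd⟩ := hA (Z i) (hZ i)
    have hN : c j ≤ bound d := le_sup_right
    have hk := hfac _ hN (Z i) ((D.HS L j).obj.map (f i).op γ)
      ((NatTrans.naturality_apply φ.hom (f i).op γ).trans
        ((congrArg ((D.HS (K (c j)) j).obj.map (f i).op).hom hγ).trans (map_zero _)))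
    have h0 : (D.HS L j).obj.map (f i).op γ = 0 := by
      refine D.injective_of_rlim hL (Z i) j (bound d) (fun T hT => ?_) (hk.trans (map_zero _).symm)
      obtain ⟨ι', Y', f', hf', hcov', hY'⟩ := hd T hT
      refine ⟨ι', Y', f', hf', hcov', fun i' => ⟨fun z => ?_, fun k => ?_⟩⟩
      · obtain ⟨w, hw⟩ := exists_limOne_of_eventually_surjective
          (fun n => D.HG (K n) (j - 1) (Y' i'))
          (fun n => Preadditive.rightComp _ ((t n)⟦j - 1⟧')) (bound d)
          (fun n hn => (hstep d (Y' i') (fun F hF => hY' i' F hF) n hn).2.1) z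
        exact ⟨w, fun n => congrFun hw n⟩
      · induction k with
        | zero =>
          intro x hx
          rw [CohCx.transition] at hx
          erw [CategoryTheory.Functor.map_id] at hx
          exact (Category.comp_id x).symm.trans hx
        | succ k ih =>
          intro x hx
          rw [CohCx.transition, Functor.map_comp, ← Category.assoc] at hx
          exact (hstep d (Y' i') (fun F hF => hY' i' F hF) _ (Nat.le_add_right _ _)).1
            ((ih _ hx).trans zero_comp.symm)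
    change (D.HS L j).obj.map g.op γ = 0
    rw [← hg', op_comp, Functor.map_comp, ConcreteCategory.comp_apply, h0, map_zero]
  have hls : Sheaf.IsLocallySurjective φ := ⟨fun {U} s => by
    obtain ⟨ι, Z, f, hcov, hZ⟩ := hB U
    refine J.transitive hcov _ fun W g hg => ?_
    obtain ⟨_, b, e, ⟨i⟩, hg'⟩ := hg
    obtain ⟨d, hd⟩ := hA (Z i) (hZ i)
    have hN : c j ≤ bound d := le_sup_right
    obtain ⟨k, hk⟩ := Nat.exists_eq_add_of_le hN
    have := htr (c j) le_rfl k
    obtain ⟨s', hs'⟩ := (sections_map_bijective D ((Hd j).map (CohCx.transition K t (c j) k)) (Z i)).2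
      ((D.HS (K (c j)) j).obj.map (f i).op s)
    obtain ⟨S, hS, hS'⟩ := D.η_locally_surjective (K (c j + k)) j (Z i) s'
    obtain ⟨ι', Y', f', hf', hcov', hY'⟩ := hd S hS
    have key : Presheaf.imageSieve φ.hom ((D.HS (K (c j)) j).obj.map (f i).op s) ∈ J (Z i) := by
      refine J.superset_covering ?_ hcov'
      rintro W' g' ⟨_, b', e', ⟨i'⟩, rfl⟩
      refine Sieve.downward_closed _ ?_ b'
      obtain ⟨x₀, hx₀⟩ := hS' _ (f' i') (hf' i')
      obtain ⟨x, hxc, hxN⟩ := exists_compatible (fun n => D.HG (K n) j (Y' i'))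
        (fun n x => x ≫ (t n)⟦j⟧') (c j + k)
        (fun n hn => (hstep d (Y' i') (fun F hF => hY' i' F hF) n (by omega)).2.2) x₀
      obtain ⟨y, hy⟩ := exists_lift_rlim hL j x hxc
      refine ⟨D.η L j (Y' i') y, ?_⟩
      have e1 : φ.hom.app (op (Y' i')) (D.η L j (Y' i') y) =
          (D.Φ.map ((Hd j).map (CohCx.transition K t (c j) k))).hom.app (op (Y' i'))
            (D.η (K (c j + k)) j (Y' i') x₀) := by
        have h : x₀ ≫ (CohCx.transition K t (c j) k)⟦j⟧' = y ≫ (a (c j))⟦j⟧' := by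
          rw [← hxN, ← hy (c j + k), Category.assoc, ← Functor.map_comp, comp_transition hL]
        exact (D.η_comp (a (c j)) j (Y' i') y).symm.trans ((congrArg (D.η (K (c j)) j (Y' i')) h.symm).trans
          (D.η_comp (CohCx.transition K t (c j) k) j (Y' i') x₀))
      refine e1.trans ?_
      rw [hx₀, ← hs']
      exact NatTrans.naturality_apply (D.Φ.map ((Hd j).map (CohCx.transition K t (c j) k))).hom (f' i').op s'
    rw [← hg', Sieve.pullback_comp]
    refine J.pullback_stable _ (J.superset_covering ?_ key)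
    intro W' g' hg''
    obtain ⟨y, hy⟩ := hg''
    refine ⟨y, hy.trans ?_⟩
    change ((D.HS (K (c j)) j).obj.map g'.op) ((D.HS (K (c j)) j).obj.map (f i).op s) =
      (D.HS (K (c j)) j).obj.map (g' ≫ f i).op s
    rw [op_comp, Functor.map_comp, ConcreteCategory.comp_apply]⟩
  have : Epi φ := inferInstance
  have : Mono ((Hd j).map (a (c j))) := D.Φ.mono_of_mono_map hmono
  have : Epi ((Hd j).map (a (c j))) := D.Φ.epi_of_epi_map (f := (Hd j).map (a (c j))) ‹Epi φ›
  exact isIso_of_mono_of_epi _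

end Groth.Agent.HDU
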