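import Groth.Agent.HDU.Tower
import Groth.Agent.ModSiteFree.Basic
import Groth.Agent.ModSiteHom.Acyclic
import Groth.Agent.CohQC.ToSheafExact
import Groth.Agent.KFlat.Site
import Groth.Agent.SiteCoh.Basic
import Mathlib.Algebra.Homology.DerivedCategory.Ext.Basic

/-!
Sheaves of modules as a category with corepresented sections; comparison of vanishing.
-/

set_option autoImplicit false
set_option linter.style.haveILetI false
set_option backward.isDefEq.respectTransparency false
set_option backward.isDefEq.respectTransparency.types false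
set_option maxHeartbeats 1000000

universe w u

open CategoryTheory Category Limits Opposite MonoidalCategory DerivedCategory

namespace Groth.Agent.HDU

variable {C : Type u} [SmallCategory C] {J : GrothendieckTopology C} (O : Sheaf J CommRingCat.{u})

/-- the free module on `U` -/
noncomputable abbrev freeMod (U : C) : ModSite.Mod O :=
  (ModSite.sheafify O).obj ((PresheafOfModules.free (ModSite.ringSh O).obj).obj (yoneda.obj U))

/-- sections corepresented, additively -/
noncomputable def modSec (U : C) (F : ModSite.Mod O) :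
    (freeMod O U ⟶ F) ≃+ ((SheafOfModules.toSheaf (ModSite.ringSh O)).obj F).obj.obj (op U) :=
  AddEquiv.mk' (ModSiteFree.freeSheafifyCorep O U).homEquiv fun a b => by
    let adj := PresheafOfModules.sheafificationAdjunction.{u} (R := ModSite.ringSh O) (𝟙 (ModSite.ringSh O).obj)
    haveI := adj.left_adjoint_additive
    exact congrArg PresheafOfModules.freeYonedaEquiv
      (map_add (adj.homAddEquiv ((PresheafOfModules.free (ModSite.ringSh O).obj).obj (yoneda.obj U)) F) a b)

lemma modSec_comp {U : C} {F G : ModSite.Mod O} (φ : freeMod O U ⟶ F) (f : F ⟶ G) :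
    modSec O U G (φ ≫ f) =
      ((SheafOfModules.toSheaf (ModSite.ringSh O)).map f).hom.app (op U) (modSec O U F φ) :=
  (ModSiteFree.freeSheafifyCorep O U).homEquiv_comp f φ

/-- functoriality of the free modules -/
noncomputable def freeModMap {U V : C} (a : V ⟶ U) : freeMod O V ⟶ freeMod O U :=
  (modSec O V _).symm (((SheafOfModules.toSheaf (ModSite.ringSh O)).obj (freeMod O U)).obj.map a.op
    (modSec O U _ (𝟙 _)))

/-- sheaves of modules -/
noncomputable def modData : SecData (ModSite.Mod O) J where
  Φ := SheafOfModules.toSheaf (ModSite.ringSh O)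
  P := freeMod O
  Pmap a := freeModMap O a
  sec := modSec O
  sec_comp φ f := modSec_comp O φ f
  sec_map {U V} a {F} φ := by
    rw [modSec_comp, freeModMap, AddEquiv.apply_symm_apply]
    refine (NatTrans.naturality_apply ((SheafOfModules.toSheaf (ModSite.ringSh O)).map φ).hom a.op _).trans ?_
    rw [← modSec_comp, id_comp]

/-- `M ⊗ O ≅ M`, natural in `M` -/
noncomputable def tensorUnitIso :
    (ModSite.tensorBi O).flip.obj (ModSite.unit O) ≅ 𝟭 (ModSite.Mod O) :=
  NatIso.ofComponents
    (fun M => (ModSite.sheafify O).mapIso (MonoidalCategory.rightUnitor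
        (C := PresheafOfModules.{u} (O.obj ⋙ forget₂ CommRingCat.{u} RingCat.{u}))
        ((SheafOfModules.forget (ModSite.ringSh O)).obj M)) ≪≫
      @asIso _ _ _ _ ((PresheafOfModules.sheafificationAdjunction.{u} (R := ModSite.ringSh O)
        (𝟙 (ModSite.ringSh O).obj)).counit.app M) inferInstance)
    fun {M N} f => by
      let L : PresheafOfModules.{u} (O.obj ⋙ forget₂ CommRingCat.{u} RingCat.{u}) ⥤ ModSite.Mod O :=
        ModSite.sheafify O
      let G := SheafOfModules.forget (ModSite.ringSh O)
      let adj := PresheafOfModules.sheafificationAdjunction.{u} (R := ModSite.ringSh O) (𝟙 (ModSite.ringSh O).obj)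
      change L.map (MonoidalCategory.whiskerRight
          (C := PresheafOfModules.{u} (O.obj ⋙ forget₂ CommRingCat.{u} RingCat.{u})) (G.map f) _) ≫
          L.map _ ≫ adj.counit.app N = (L.map _ ≫ adj.counit.app M) ≫ f
      rw [← Functor.map_comp_assoc]
      erw [MonoidalCategory.rightUnitor_naturality]
      erw [Functor.map_comp_assoc, adj.counit.naturality f, Category.assoc]
      rfl

/-- injective modules have no higher cohomology -/
theorem subsingleton_hu_injective (I : ModSite.Mod O) [Injective I] (p : ℕ) (U : C) :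
    Subsingleton (ModSite.HU O I (p + 1) U) := by
  haveI := ModSiteTensor.hasSheafHom (O := O) (ModSite.unit O)
  let e : ModSite.sheafHom (ModSite.unit O) ≅ 𝟭 (ModSite.Mod O) :=
    conjugateIsoEquiv (ModSite.sheafHomAdj (ModSite.unit O)) Adjunction.id (tensorUnitIso O).symm
  have hK : Subsingleton (Abelian.Ext (CohCx.freeSheaf J U)
      (ModSite.toAb ((ModSite.sheafHom (ModSite.unit O)).obj I)) (p + 1)) :=
    ModSiteHom.subsingleton_ext_of_retraction ModSiteHom.exists_epi_torsionFree
      (fun S hS h₁ h₃ => ModSiteHom.exists_retraction (ModSite.unit O) I S hS h₁ h₃)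
      p _ (ModSiteHom.torsionFree_freeSheaf (yoneda.obj U))
  change Subsingleton (Abelian.Ext (CohCx.freeSheaf J U) (ModSite.toAb I) (p + 1))
  let e' := (SheafOfModules.toSheaf (ModSite.ringSh O)).mapIso (e.app I)
  refine subsingleton_of_forall_eq 0 fun x => ?_
  have : x = (x.comp (Abelian.Ext.mk₀ e'.inv) (add_zero _)).comp (Abelian.Ext.mk₀ e'.hom) (add_zero _) := by
    simp
  rw [this, Subsingleton.elim (x.comp (Abelian.Ext.mk₀ e'.inv) (add_zero _)) 0, Abelian.Ext.zero_comp]

/-- vanishing of cohomology of the underlying sheaf gives vanishing of `Ext` of modules -/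
theorem subsingleton_ext_of_hu (U : C) : ∀ (k : ℕ) (F : ModSite.Mod O),
    Subsingleton (ModSite.HU O F (k + 1) U) →
    haveI : IsGrothendieckAbelian.{u} (ModSite.Mod O) := KFlat.isGrothendieck O
    Subsingleton (Abelian.Ext (freeMod O U) F (k + 1)) := by
  haveI : IsGrothendieckAbelian.{u} (ModSite.Mod O) := KFlat.isGrothendieck O
  haveI : PreservesFiniteLimits (SheafOfModules.toSheaf.{u} (ModSite.ringSh O)) := inferInstance
  intro k
  induction k with
  | zero =>
    intro F hF
    have hS := SiteCoh.embedSeq_shortExact F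
    have hT := hS.map_of_exact (SheafOfModules.toSheaf.{u} (ModSite.ringSh O))
    haveI : Subsingleton (CohSite.HU ((SiteCoh.embedSeq F).map
      (SheafOfModules.toSheaf.{u} (ModSite.ringSh O))).X₁ 1 U) := hF
    have hs := SiteCoh.sections_surjective hT U
    refine SiteCoh.subsingleton_ext_one_of_lift hS (freeMod O U) fun φ => ?_
    obtain ⟨t, ht⟩ := hs (modSec O U _ φ)
    refine ⟨(modSec O U _).symm t, (modSec O U _).injective ?_⟩
    rw [modSec_comp, AddEquiv.apply_symm_apply]
    exact ht
  | succ m ih =>
    intro F hF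
    have hS := SiteCoh.embedSeq_shortExact F
    have hT := hS.map_of_exact (SheafOfModules.toSheaf.{u} (ModSite.ringSh O))
    haveI : Subsingleton (Abelian.Ext (CohCx.freeSheaf J U) ((SiteCoh.embedSeq F).map
      (SheafOfModules.toSheaf.{u} (ModSite.ringSh O))).X₁ (m + 1 + 1)) := hF
    haveI : Subsingleton (Abelian.Ext (CohCx.freeSheaf J U) ((SiteCoh.embedSeq F).map
      (SheafOfModules.toSheaf.{u} (ModSite.ringSh O))).X₂ (m + 1)) :=
      subsingleton_hu_injective O (SiteCoh.embedSeq F).X₂ m U
    haveI := ih (SiteCoh.embedSeq F).X₃ (SiteCoh.subsingleton_ext_quotient hT (CohCx.freeSheaf J U) (m + 1))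
    exact SiteCoh.subsingleton_ext_succ hS (freeMod O U) (m + 1)

/-- vanishing of hypercohomology of single modules -/
theorem modVan [HasDerivedCategory.{w} (ModSite.Mod O)] (F : ModSite.Mod O) (k : ℕ) (hk : 0 < k) (U : C)
    (h : Subsingleton (ModSite.HU O F k U)) : (modData O).Van F (k : ℤ) U := by
  haveI : IsGrothendieckAbelian.{u} (ModSite.Mod O) := KFlat.isGrothendieck O
  obtain ⟨p, rfl⟩ : ∃ p, k = p + 1 := ⟨k - 1, by omega⟩
  exact @Equiv.subsingleton _ _ (Abelian.Ext.homEquiv (X := freeMod O U) (Y := F) (n := p + 1)).symm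
    (subsingleton_ext_of_hu O U p F h)

end Groth.Agent.HDU
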