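import Groth.Agent.HDU.Concentrated
import Groth.Agent.KInj.Existence
import Groth.Agent.SiteCoh.KInj
import Groth.Prelude.Def_CohTop
import Mathlib.Topology.Sheaves.Functors
import Mathlib.CategoryTheory.Sites.Pullback
import Groth.Agent.SiteCoh.PullbackExact

/-!
Representatives and direct images for hypercohomology on spaces.
-/

set_option autoImplicit false
set_option linter.style.haveILetI false
set_option backward.isDefEq.respectTransparency false
set_option backward.isDefEq.respectTransparency.types false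

universe w v u

open CategoryTheory Category Limits Opposite DerivedCategory TopologicalSpace

namespace Groth.Agent.HDU

/-- every object of the derived category is represented by a K-injective complex of injectives -/
lemma exists_kInj_rep {A : Type u} [Category.{v} A] [Abelian A] [IsGrothendieckAbelian.{v} A]
    [HasDerivedCategory.{w} A] (K : DerivedCategory A) :
    ∃ I : CochainComplex A ℤ, I.IsKInjective ∧ Nonempty (Q.obj I ≅ K) := by
  obtain ⟨K', ⟨e⟩⟩ : ∃ K', Nonempty (Q.obj K' ≅ K) :=
    ⟨_, ⟨(Q : _ ⥤ DerivedCategory A).objObjPreimageIso K⟩⟩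
  obtain ⟨I, f, hI⟩ := KInj.exists_kInjective K'
  haveI : QuasiIso f := by tauto
  exact ⟨I, by tauto, ⟨(asIso (Q.map f)).symm ≪≫ e⟩⟩

variable {X Y : TopCat.{u}} (f : X ⟶ Y)

lemma pull_type_preservesFiniteLimits : PreservesFiniteLimits ((Opens.map f).sheafPullback (Type u)
    (Opens.grothendieckTopology Y) (Opens.grothendieckTopology X)) :=
  have : PreservesFiniteLimits ((Opens.map f).op.lan : ((Opens Y)ᵒᵖ ⥤ Type u) ⥤ _) := inferInstance
  Functor.sheafPullbackConstruction.preservesFiniteLimits (Opens.map f) (Type u)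
    (Opens.grothendieckTopology Y) (Opens.grothendieckTopology X)

instance pull_preservesFiniteLimits : PreservesFiniteLimits (CohTop.pull f) :=
  have := pull_type_preservesFiniteLimits f
  SiteCoh.pullback_preservesFiniteLimits (Opens.map f)

lemma push_isKInjective (I : CochainComplex (CohTop.Ab X) ℤ) [I.IsKInjective] :
    CochainComplex.IsKInjective (((CohTop.push f).mapHomologicalComplex (ComplexShape.up ℤ)).obj I) :=
  have : (CohTop.pull f).PreservesMonomorphisms := inferInstance
  have : (TopCat.Sheaf.pushforward AddCommGrpCat.{u} f).Additive := inferInstanceAs (CohTop.push f).Additive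
  SiteCoh.isKInjective_of_adjunction (TopCat.Sheaf.pullbackPushforwardAdjunction AddCommGrpCat.{u} f) I

lemma basisSieve_mem (B : Set (Opens Y)) (hB : Opens.IsBasis B) (U : Opens Y) :
    ∃ S ∈ Opens.grothendieckTopology Y U, ∀ (V : Opens Y) (g : V ⟶ U), S g →
      ∃ W ∈ B, V ≤ W ∧ W ≤ U := by
  refine ⟨{ arrows := fun V _ => ∃ W ∈ B, V ≤ W ∧ W ≤ U, downward_closed := ?_ }, fun x hx => ?_, fun V g hg => hg⟩
  · rintro V V' g ⟨W, hW, hVW, hWU⟩ a
    exact ⟨W, hW, a.le.trans hVW, hWU⟩
  · obtain ⟨W, hW, hxW, hWU⟩ := Opens.isBasis_iff_nbhd.1 hB hx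
    exact ⟨W, homOfLE hWU, ⟨W, hW, le_rfl, hWU⟩, hxW⟩

end Groth.Agent.HDU
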