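import Groth.Prelude.Def_CohCx
import Mathlib.CategoryTheory.Triangulated.Yoneda
import Mathlib.CategoryTheory.Triangulated.TriangleShift
import Mathlib.CategoryTheory.Adjunction.Limits

/-!
Morphisms into derived limits.
-/

set_option autoImplicit false
set_option linter.style.haveILetI false
set_option backward.isDefEq.respectTransparency false

universe w v u

open CategoryTheory Category Limits Pretriangulated

namespace Groth.Agent.HDU

variable {T : Type u} [Category.{v} T] [Preadditive T] [HasZeroObject T] [HasShift T ℤ]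
  [∀ n : ℤ, (shiftFunctor T n).Additive] [Pretriangulated T]
  {K : ℕ → T} {t : ∀ n, K (n + 1) ⟶ K n} [HasProduct K] {L : T} {a : ∀ n, L ⟶ K n}

/-- the map `1 - shift` -/
noncomputable abbrev oneSubShift (K : ℕ → T) (t : ∀ n, K (n + 1) ⟶ K n) [HasProduct K] : ∏ᶜ K ⟶ ∏ᶜ K :=
  Pi.lift fun n => Pi.π K n - Pi.π K (n + 1) ≫ t n

lemma shift_pi_hom_ext (m : ℤ) {P : T} {f g : P ⟶ (∏ᶜ K)⟦m⟧}
    (h : ∀ n, f ≫ (Pi.π K n)⟦m⟧' = g ≫ (Pi.π K n)⟦m⟧') : f = g :=
  (isLimitOfHasProductOfPreservesLimit (shiftFunctor T m) K).hom_ext fun ⟨n⟩ => h n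

lemma exists_shift_pi_lift (m : ℤ) {P : T} (x : ∀ n, P ⟶ (K n)⟦m⟧) :
    ∃ f : P ⟶ (∏ᶜ K)⟦m⟧, ∀ n, f ≫ (Pi.π K n)⟦m⟧' = x n :=
  ⟨(isLimitOfHasProductOfPreservesLimit (shiftFunctor T m) K).lift (Fan.mk P x),
    fun n => (isLimitOfHasProductOfPreservesLimit (shiftFunctor T m) K).fac _ ⟨n⟩⟩

lemma compat_of_isRlimVia (hL : CohCx.IsRlimVia K t L a) (n : ℕ) : a (n + 1) ≫ t n = a n := by
  obtain ⟨c, hc⟩ := hL
  have h : Pi.lift a ≫ oneSubShift K t = 0 := comp_distTriang_mor_zero₁₂ _ hc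
  have h' := congrArg (· ≫ Pi.π K n) h
  simp [oneSubShift, sub_eq_zero] at h'
  exact h'.symm

/-- compatible families of morphisms lift to the derived limit -/
theorem exists_lift_rlim (hL : CohCx.IsRlimVia K t L a) {P : T} (m : ℤ) (x : ∀ n, P ⟶ (K n)⟦m⟧)
    (hx : ∀ n, x (n + 1) ≫ (t n)⟦m⟧' = x n) :
    ∃ y : P ⟶ L⟦m⟧, ∀ n, y ≫ (a n)⟦m⟧' = x n := by
  obtain ⟨c, hc⟩ := hL
  have hs := Triangle.shift_distinguished _ hc m
  obtain ⟨f, hf⟩ := exists_shift_pi_lift m x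
  have h0 : f ≫ (oneSubShift K t)⟦m⟧' = 0 := shift_pi_hom_ext m fun n => by
    rw [Category.assoc, ← Functor.map_comp, Pi.lift_π, Functor.map_sub, Functor.map_comp,
      Preadditive.comp_sub, ← Category.assoc, hf, hf, hx, sub_self, zero_comp]
  obtain ⟨y, hy⟩ := Triangle.coyoneda_exact₂ _ hs f (by
    change f ≫ (m.negOnePow • (oneSubShift K t)⟦m⟧') = 0
    rw [Linear.comp_units_smul, h0, smul_zero])
  change f = y ≫ (m.negOnePow • (Pi.lift a)⟦m⟧') at hy
  refine ⟨m.negOnePow • y, fun n => ?_⟩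
  rw [← hf n, hy, Linear.comp_units_smul, Linear.units_smul_comp, Linear.units_smul_comp,
    Category.assoc, ← Functor.map_comp, Pi.lift_π]

/-- morphisms killed by all projections vanish when the previous system has no `lim¹` -/
theorem eq_zero_of_proj (hL : CohCx.IsRlimVia K t L a) {P : T} (m : ℤ)
    (hlim : ∀ z : ∀ n, P ⟶ (K n)⟦m - 1⟧, ∃ w : ∀ n, P ⟶ (K n)⟦m - 1⟧,
      ∀ n, w n - w (n + 1) ≫ (t n)⟦m - 1⟧' = z n)
    (y : P ⟶ L⟦m⟧) (hy : ∀ n, y ≫ (a n)⟦m⟧' = 0) : y = 0 := by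
  obtain ⟨c, hc⟩ := hL
  have hs := Triangle.shift_distinguished _ (rot_of_distTriang _ hc) (m - 1)
  let e := (shiftFunctorAdd' T 1 (m - 1) m (by omega))
  have hy0 : y ≫ (Pi.lift a)⟦m⟧' = 0 := shift_pi_hom_ext m fun n => by
    rw [Category.assoc, ← Functor.map_comp, Pi.lift_π, hy, zero_comp]
  let y' : P ⟶ ((L⟦(1 : ℤ)⟧)⟦m - 1⟧) := y ≫ e.hom.app L
  obtain ⟨z, hz⟩ := Triangle.coyoneda_exact₃ _ hs y' (by
    change y' ≫ ((m - 1).negOnePow • ((shiftFunctor T (m - 1)).map (-(Pi.lift a)⟦(1 : ℤ)⟧') ≫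
      (shiftFunctorComm T 1 (m - 1)).hom.app (∏ᶜ K))) = 0
    have hn := e.hom.naturality (Pi.lift a)
    dsimp at hn
    rw [Linear.comp_units_smul, Functor.map_neg, Preadditive.neg_comp, Preadditive.comp_neg,
      ← Category.assoc y', Category.assoc y, ← hn, ← Category.assoc y, hy0, zero_comp, zero_comp,
      neg_zero, smul_zero])
  change y' = z ≫ ((m - 1).negOnePow • c⟦m - 1⟧') at hz
  obtain ⟨w, hw⟩ := hlim fun n => z ≫ (Pi.π K n)⟦m - 1⟧'
  obtain ⟨f, hf⟩ := exists_shift_pi_lift (m - 1) w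
  have hzf : z = f ≫ (oneSubShift K t)⟦m - 1⟧' := shift_pi_hom_ext (m - 1) fun n => by
    rw [Category.assoc, ← Functor.map_comp, Pi.lift_π, Functor.map_sub, Functor.map_comp,
      Preadditive.comp_sub, ← Category.assoc, hf, hf, hw]
  have hvc : oneSubShift K t ≫ c = 0 := comp_distTriang_mor_zero₂₃ _ hc
  have h0 : y' = 0 := by
    rw [hz, hzf, Linear.comp_units_smul, Category.assoc, ← Functor.map_comp, hvc, Functor.map_zero,
      comp_zero, smul_zero]
  rw [← cancel_mono (e.hom.app L), zero_comp]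
  exact h0

/-- derived limits exist -/
theorem exists_rlim (K : ℕ → T) (t : ∀ n, K (n + 1) ⟶ K n) [HasProduct K] :
    ∃ (L : T) (a : ∀ n, L ⟶ K n), CohCx.IsRlimVia K t L a := by
  obtain ⟨L, f, c, h⟩ := distinguished_cocone_triangle₁ (oneSubShift K t)
  refine ⟨L, fun n => f ≫ Pi.π K n, c, ?_⟩
  rwa [show Pi.lift (fun n => f ≫ Pi.π K n) = f from Pi.hom_ext _ _ fun n => by simp]

/-- a compatible family maps to the derived limit -/
theorem exists_map_to_rlim (hL : CohCx.IsRlimVia K t L a) {E : T} (b : ∀ n, E ⟶ K n)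
    (hb : ∀ n, b (n + 1) ≫ t n = b n) : ∃ f : E ⟶ L, ∀ n, f ≫ a n = b n := by
  obtain ⟨c, hc⟩ := hL
  obtain ⟨f, hf⟩ := Triangle.coyoneda_exact₂ _ hc (Pi.lift b) (Pi.hom_ext _ _ fun n => by
    simp [Preadditive.comp_sub, hb n])
  refine ⟨f, fun n => ?_⟩
  have := congrArg (· ≫ Pi.π K n) hf
  simp at this
  exact this.symm

/-- derived limits transport along isomorphisms -/
theorem isRlimVia_of_iso (hL : CohCx.IsRlimVia K t L a) {E : T} (f : E ⟶ L) [IsIso f] (b : ∀ n, E ⟶ K n)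
    (hb : ∀ n, f ≫ a n = b n) : CohCx.IsRlimVia K t E b := by
  obtain ⟨c, hc⟩ := hL
  refine ⟨c ≫ (inv f)⟦(1 : ℤ)⟧', isomorphic_distinguished _ hc _ ?_⟩
  refine Triangle.isoMk _ _ (asIso f) (Iso.refl _) (Iso.refl _) ?_ (by simp) ?_
  · simp only [Triangle.mk_mor₁, Iso.refl_hom, Category.comp_id, asIso_hom]
    exact Pi.hom_ext _ _ fun n => by simp [hb n]
  · simp [← Functor.map_comp]

lemma exists_limOne_of_eventually_surjective (A : ℕ → Type w) [∀ n, AddCommGroup (A n)]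
    (s : ∀ n, A (n + 1) →+ A n) (n₀ : ℕ) (h : ∀ n, n₀ ≤ n → Function.Surjective (s n)) :
    CohCx.LimOneIsZero A s := by
  intro b
  -- values from `n₀` on, by successive lifts
  have hch : ∀ n, n₀ ≤ n → ∀ x : A n, ∃ y : A (n + 1), x - s n y = b n := fun n hn x => by
    obtain ⟨y, hy⟩ := h n hn (x - b n)
    exact ⟨y, by rw [hy]; abel⟩
  induction n₀ generalizing A b with
  | zero =>
    choose f hf using fun n => hch n (Nat.zero_le _)
    let r : ∀ n, A n := fun n => Nat.rec (motive := fun k => A k) 0 (fun k x => f k x) n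
    exact ⟨r, funext fun n => hf n (r n)⟩
  | succ N ih =>
    obtain ⟨r, hr⟩ := ih (fun n => A (n + 1)) (fun n => s (n + 1)) (fun n hn => h (n + 1) (by omega))
      (fun n => b (n + 1)) (fun n hn x => hch (n + 1) (by omega) x)
    refine ⟨fun n => match n with
      | 0 => b 0 + s 0 (r 0)
      | k + 1 => r k, funext fun n => ?_⟩
    cases n with
    | zero => change b 0 + s 0 (r 0) - s 0 (r 0) = b 0; abel
    | succ k => exact congrFun hr k

lemma exists_compatible (A : ℕ → Type w) (s : ∀ n, A (n + 1) → A n) (N : ℕ)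
    (h : ∀ n, N ≤ n → Function.Surjective (s n)) (x₀ : A N) :
    ∃ r : ∀ n, A n, (∀ n, s n (r (n + 1)) = r n) ∧ r N = x₀ := by
  induction N generalizing A with
  | zero =>
    choose g hg using fun n => h n (Nat.zero_le _)
    exact ⟨fun n => Nat.rec (motive := fun k => A k) x₀ (fun k x => g k x) n,
      fun n => hg n _, rfl⟩
  | succ M ih =>
    obtain ⟨r, hr, hr'⟩ := ih (fun n => A (n + 1)) (fun n => s (n + 1)) (fun n hn => h (n + 1) (by omega)) x₀
    refine ⟨fun n => match n with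
      | 0 => s 0 (r 0)
      | k + 1 => r k, fun n => ?_, hr'⟩
    cases n with
    | zero => rfl
    | succ k => exact hr k

end Groth.Agent.HDU
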