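import Groth.Agent.HDU.Section
import Groth.Agent.HDU.Milnor

/-!
Truncation towers and hypercohomology.
-/

set_option autoImplicit false
set_option linter.style.haveILetI false
set_option linter.unusedSectionVars false
set_option backward.isDefEq.respectTransparency false
set_option backward.isDefEq.respectTransparency.types false

universe w v u u'

open CategoryTheory Category Limits Opposite Pretriangulated DerivedCategory DerivedCategory.TStructure

namespace Groth.Agent.HDU

section Abelian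

variable {A : Type u'} [Category.{v} A] [Abelian A] [HasDerivedCategory.{w} A]

local notation "Hd" => DerivedCategory.homologyFunctor A


lemma isIso_H_truncGEπ (E : DerivedCategory A) (a i : ℤ) (hi : a ≤ i) :
    IsIso ((Hd i).map ((t.truncGEπ a).app E)) := by
  have hT := t.triangleLTGE_distinguished a E
  have h1 : ∀ j : ℤ, a ≤ j → IsZero ((Hd j).obj ((t.truncLT a).obj E)) := fun j hj => by
    have : ((t.truncLT a).obj E).IsLE (a - 1) :=
      inferInstanceAs (t.IsLE ((t.truncLT a).obj E) (a - 1))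
    exact isZero_of_isLE _ (a - 1) j (by omega)
  have : Mono ((Hd i).map ((t.truncGEπ a).app E)) :=
    (HomologySequence.exact₂ _ hT i).mono_g ((h1 i hi).eq_of_src _ _)
  have : Epi ((Hd i).map ((t.truncGEπ a).app E)) :=
    (HomologySequence.exact₃ _ hT i (i + 1) rfl).epi_f ((h1 (i + 1) (by omega)).eq_of_tgt _ _)
  exact isIso_of_mono_of_epi _

lemma isGE_truncGE (E : DerivedCategory A) (a : ℤ) : ((t.truncGE a).obj E).IsGE a :=
  inferInstanceAs (t.IsGE ((t.truncGE a).obj E) a)

lemma isIso_H_natTransTruncGE (E : DerivedCategory A) (a b : ℤ) (hab : a ≤ b) (i : ℤ) (hi : b ≤ i) :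
    IsIso ((Hd i).map ((t.natTransTruncGEOfLE a b hab).app E)) := by
  have h1 := isIso_H_truncGEπ E a i (by omega)
  have h2 := isIso_H_truncGEπ E b i hi
  have h : (Hd i).map ((t.truncGEπ a).app E) ≫ (Hd i).map ((t.natTransTruncGEOfLE a b hab).app E) =
      (Hd i).map ((t.truncGEπ b).app E) := by rw [← Functor.map_comp, t.π_natTransTruncGEOfLE_app]
  exact IsIso.of_isIso_fac_left h

/-- the fibre of a map killing only the bottom cohomology -/
lemma exists_fibre {M M' : DerivedCategory A} (f : M ⟶ M') (a : ℤ) (hM : M.IsGE a)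
    (hM' : M'.IsGE (a + 1)) (hf : ∀ i, a + 1 ≤ i → IsIso ((Hd i).map f)) :
    ∃ (F : DerivedCategory A) (g : F ⟶ M) (h : M' ⟶ F⟦(1 : ℤ)⟧),
      Triangle.mk g f h ∈ distTriang (DerivedCategory A) ∧
      Nonempty (F⟦a⟧ ≅ (DerivedCategory.singleFunctor A 0).obj ((Hd a).obj M)) := by
  obtain ⟨F, g, h, hT⟩ := distinguished_cocone_triangle₁ f
  refine ⟨F, g, h, hT, ?_⟩
  have hz : ∀ i : ℤ, i ≠ a → IsZero ((Hd i).obj F) := fun i hi => by
    rcases lt_trichotomy i a with hia | hia | hia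
    · exact (HomologySequence.exact₁ _ hT (i - 1) i (by omega)).isZero_of_both_zeros
        ((isZero_of_isGE M' (a + 1) (i - 1) (by omega)).eq_of_src _ _)
        ((isZero_of_isGE M a i hia).eq_of_tgt _ _)
    · exact absurd hia hi
    · refine (HomologySequence.exact₁ _ hT (i - 1) i (by omega)).isZero_of_both_zeros ?_ ?_
      · rcases eq_or_lt_of_le (show a + 1 ≤ i by omega) with he | hlt
        · exact (isZero_of_isGE M' (a + 1) (i - 1) (by omega)).eq_of_src _ _
        · have := hf (i - 1) (by omega)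
          rw [← cancel_epi ((Hd (i - 1)).map f), comp_zero]
          exact HomologySequence.comp_δ (Triangle.mk g f h) hT (i - 1) i (by omega)
      · have := hf i (by omega)
        rw [← cancel_mono ((Hd i).map f), zero_comp, ← Functor.map_comp]
        exact ((Hd i).congr_map (comp_distTriang_mor_zero₁₂ _ hT)).trans (Functor.map_zero _ _ _)
  have hGE : F.IsGE a := (isGE_iff F a).2 fun i hi => hz i (by omega)
  have hLE : F.IsLE a := (isLE_iff F a).2 fun i hi => hz i (by omega)
  have h0 : (F⟦a⟧).IsGE 0 := TStructure.t.isGE_shift F a a 0 (by omega)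
  have h0' : (F⟦a⟧).IsLE 0 := TStructure.t.isLE_shift F a a 0 (by omega)
  obtain ⟨Y, ⟨e⟩⟩ := exists_iso_singleFunctor_obj_of_isGE_of_isLE (F⟦a⟧) 0
  have : IsIso ((Hd a).map g) := WayOut.isIso_H_mor₁ _ hT (a + 1) a hM' (by omega)
  exact ⟨e ≪≫ (DerivedCategory.singleFunctor A 0).mapIso
    (((singleFunctorCompHomologyFunctorIso A 0).app Y).symm ≪≫ (Hd 0).mapIso e.symm ≪≫
      ((Hd 0).shiftIso a 0 a (by omega)).app F ≪≫ asIso ((Hd a).map g))⟩

lemma subsingleton_shift_of_fibre {P : A} {Y : A} {F : DerivedCategory A} {a : ℤ}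
    (e : F⟦a⟧ ≅ (DerivedCategory.singleFunctor A 0).obj Y) (j : ℤ)
    (hY : Subsingleton ((DerivedCategory.singleFunctor A 0).obj P ⟶
      (shiftFunctor (DerivedCategory A) (j - a)).obj ((DerivedCategory.singleFunctor A 0).obj Y))) :
    Subsingleton ((DerivedCategory.singleFunctor A 0).obj P ⟶ (shiftFunctor (DerivedCategory A) j).obj F) :=
  (((shiftFunctorAdd' (DerivedCategory A) a (j - a) j (by omega)).app F ≪≫
    (shiftFunctor (DerivedCategory A) (j - a)).mapIso e).homToEquiv).subsingleton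

variable {P : A} {M M' : DerivedCategory A} (f : M ⟶ M') (a : ℤ) (hM : M.IsGE a)
    (hM' : M'.IsGE (a + 1)) (hf : ∀ i, a + 1 ≤ i → IsIso ((DerivedCategory.homologyFunctor A i).map f))

include hM hM' hf in
lemma injective_comp (j : ℤ)
    (hY : Subsingleton ((DerivedCategory.singleFunctor A 0).obj P ⟶
      (shiftFunctor (DerivedCategory A) (j - a)).obj
        ((DerivedCategory.singleFunctor A 0).obj ((Hd a).obj M)))) :
    Function.Injective (fun x : (DerivedCategory.singleFunctor A 0).obj P ⟶ M⟦j⟧ => x ≫ f⟦j⟧') := by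
  obtain ⟨F, g, h, hT, ⟨e⟩⟩ := exists_fibre f a hM hM' hf
  have := subsingleton_shift_of_fibre e j hY
  intro x y hxy
  rw [← sub_eq_zero]
  obtain ⟨z, hz⟩ := Triangle.coyoneda_exact₂ _ (Triangle.shift_distinguished _ hT j) (x - y) (by
    change (x - y) ≫ (j.negOnePow • f⟦j⟧') = 0
    rw [Linear.comp_units_smul, Preadditive.sub_comp, sub_eq_zero.2 hxy, smul_zero])
  rw [hz]
  convert! zero_comp
  exact this.elim _ _

include hM hM' hf in
lemma surjective_comp (j : ℤ)
    (hY : Subsingleton ((DerivedCategory.singleFunctor A 0).obj P ⟶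
      (shiftFunctor (DerivedCategory A) (j + 1 - a)).obj
        ((DerivedCategory.singleFunctor A 0).obj ((Hd a).obj M)))) :
    Function.Surjective (fun x : (DerivedCategory.singleFunctor A 0).obj P ⟶ M⟦j⟧ => x ≫ f⟦j⟧') := by
  obtain ⟨F, g, h, hT, ⟨e⟩⟩ := exists_fibre f a hM hM' hf
  have h1 := subsingleton_shift_of_fibre e (j + 1) hY
  have : Subsingleton ((DerivedCategory.singleFunctor A 0).obj P ⟶ (F⟦j⟧)⟦(1 : ℤ)⟧) :=
    (((shiftFunctorAdd' (DerivedCategory A) j 1 (j + 1) rfl).app F).symm.homToEquiv).subsingleton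
  intro y
  obtain ⟨z, hz⟩ := Triangle.coyoneda_exact₃ _ (Triangle.shift_distinguished _ hT j) y (this.elim _ _)
  change y = z ≫ (j.negOnePow • f⟦j⟧') at hz
  refine ⟨j.negOnePow • z, ?_⟩
  change (j.negOnePow • z) ≫ f⟦j⟧' = y
  rw [hz, Linear.units_smul_comp, Linear.comp_units_smul]

end Abelian

variable {A : Type u'} [Category.{v} A] [Abelian A] {C : Type u} [SmallCategory C]
  {J : GrothendieckTopology C} (D : SecData A J) [HasDerivedCategory.{w} A]

lemma comp_transition {T : Type*} [Category T] [Preadditive T] [HasZeroObject T] [HasShift T ℤ]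
    [∀ n : ℤ, (shiftFunctor T n).Additive] [Pretriangulated T]
    {K : ℕ → T} {t : ∀ n, K (n + 1) ⟶ K n} [HasProduct K] {L : T} {a : ∀ n, L ⟶ K n}
    (hL : CohCx.IsRlimVia K t L a) (n : ℕ) : ∀ k : ℕ, a (n + k) ≫ CohCx.transition K t n k = a n
  | 0 => Category.comp_id _
  | k + 1 => by
    rw [CohCx.transition, ← Category.assoc]
    exact (congrArg (· ≫ CohCx.transition K t n k) (compat_of_isRlimVia hL (n + k))).trans
      (comp_transition hL n k)

namespace SecData

/-- `H^j(U, F) = 0` -/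
abbrev Van (F : A) (j : ℤ) (U : C) : Prop :=
  Subsingleton (D.HG ((DerivedCategory.singleFunctor A 0).obj F) j U)

variable [IsGrothendieckAbelian.{v} A]

/-- the sieve of arrows on which a section killed by `f` lifts to a class killed by `f` -/
theorem liftKilled_mem {L M : DerivedCategory A} (f : L ⟶ M) (V : C) (m : ℤ)
    (γ : (D.HS L m).obj.obj (op V))
    (hγ : (D.Φ.map ((DerivedCategory.homologyFunctor A m).map f)).hom.app (op V) γ = 0) :
    ∃ T ∈ J V, ∀ (W : C) (g : W ⟶ V), T g →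
      ∃ x : D.HG L m W, D.η L m W x = (D.HS L m).obj.map g.op γ ∧ x ≫ f⟦m⟧' = 0 := by
  obtain ⟨S₁, hS₁, hS₁'⟩ := D.η_locally_surjective L m V γ
  refine ⟨{ arrows := fun W g => ∃ x : D.HG L m W,
              D.η L m W x = (D.HS L m).obj.map g.op γ ∧ x ≫ f⟦m⟧' = 0
            downward_closed := fun {W W'} g hg b => by
              obtain ⟨x, hx, hx0⟩ := hg
              refine ⟨D.res L m b x, ?_, (Category.assoc _ _ _).trans (by rw [hx0, comp_zero])⟩
              rw [D.η_res, hx, ← ConcreteCategory.comp_apply, ← Functor.map_comp]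
              rfl }, ?_, fun W g hg => hg⟩
  refine J.transitive hS₁ _ fun W g hg => ?_
  obtain ⟨x, hx⟩ := hS₁' W g hg
  obtain ⟨S₂, hS₂, hS₂'⟩ := D.η_locally_injective M m W (x ≫ f⟦m⟧') (by
    rw [D.η_comp, hx]
    refine ((NatTrans.naturality_apply (D.Φ.map ((DerivedCategory.homologyFunctor A m).map f)).hom
      g.op γ)).trans ?_
    rw [hγ, map_zero])
  refine J.superset_covering (fun W' b hb => ?_) hS₂
  refine ⟨D.res L m b x, ?_, (Category.assoc _ _ _).trans (hS₂' W' b hb)⟩
  rw [D.η_res, hx, ← ConcreteCategory.comp_apply, ← Functor.map_comp]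
  rfl

omit [IsGrothendieckAbelian.{v} A] in
/-- a class killed in one step of the tower vanishes when there is no `lim¹` -/
theorem eq_zero_of_killed {K : ℕ → DerivedCategory A} {t : ∀ n, K (n + 1) ⟶ K n} [HasProduct K]
    {L : DerivedCategory A} {a : ∀ n, L ⟶ K n} (hL : CohCx.IsRlimVia K t L a) {Y : C} (m : ℤ) (nV : ℕ)
    (hlim : ∀ z : ∀ n, D.HG (K n) (m - 1) Y, ∃ w : ∀ n, D.HG (K n) (m - 1) Y,
      ∀ n, w n - w (n + 1) ≫ (t n)⟦m - 1⟧' = z n)
    (hinj : ∀ k : ℕ, ∀ x : D.HG (K (nV + k)) m Y, x ≫ (CohCx.transition K t nV k)⟦m⟧' = 0 → x = 0)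
    (x : D.HG L m Y) (hx0 : x ≫ (a nV)⟦m⟧' = 0) : x = 0 :=
  eq_zero_of_proj hL m hlim x fun n => by
    rcases le_total nV n with hn | hn
    · obtain ⟨k, rfl⟩ := Nat.exists_eq_add_of_le hn
      refine hinj k _ ?_
      rw [Category.assoc, ← Functor.map_comp, comp_transition hL]
      exact hx0
    · obtain ⟨k, rfl⟩ := Nat.exists_eq_add_of_le hn
      rw [← comp_transition hL n k, Functor.map_comp, ← Category.assoc, hx0, zero_comp]

omit [IsGrothendieckAbelian.{v} A] in
lemma eq_zero_of_cover (M : DerivedCategory A) (m : ℤ) {V : C} (γ : (D.HS M m).obj.obj (op V))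
    {S : Sieve V} (hS : S ∈ J V)
    (h : ∀ (W : C) (g : W ⟶ V), S g → (D.HS M m).obj.map g.op γ = 0) : γ = 0 :=
  (Presieve.IsSheafFor.isSeparatedFor
    ((isSheaf_iff_isSheaf_of_type J _).1
      ((sheafCompose J (forget AddCommGrpCat.{u})).obj (D.HS M m)).property _ hS)).ext
    fun W g hg => by
      change (D.HS M m).obj.map g.op γ = (D.HS M m).obj.map g.op 0
      rw [h W g hg, map_zero]

/-- sections of cohomology sheaves of a derived limit inject -/
theorem injective_of_rlim {K : ℕ → DerivedCategory A} {t : ∀ n, K (n + 1) ⟶ K n} [HasProduct K]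
    {L : DerivedCategory A} {a : ∀ n, L ⟶ K n} (hL : CohCx.IsRlimVia K t L a) (V : C) (m : ℤ) (nV : ℕ)
    (h : ∀ T ∈ J V, ∃ (ι : Type u) (Y : ι → C) (f : ∀ i, Y i ⟶ V), (∀ i, T.arrows (f i)) ∧
      Sieve.ofArrows Y f ∈ J V ∧ ∀ i,
        (∀ z : ∀ n, D.HG (K n) (m - 1) (Y i), ∃ w : ∀ n, D.HG (K n) (m - 1) (Y i),
          ∀ n, w n - w (n + 1) ≫ (t n)⟦m - 1⟧' = z n) ∧
        ∀ k : ℕ, ∀ x : D.HG (K (nV + k)) m (Y i),
          x ≫ (CohCx.transition K t nV k)⟦m⟧' = 0 → x = 0) :
    Function.Injective ((D.Φ.map ((DerivedCategory.homologyFunctor A m).map (a nV))).hom.app (op V)) := by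
  refine (injective_iff_map_eq_zero _).mpr fun γ hγ => ?_
  obtain ⟨T₀, hT₀, hT₀'⟩ := D.liftKilled_mem (a nV) V m γ hγ
  obtain ⟨ι, Y, f, hf, hcov, hY⟩ := h T₀ hT₀
  refine D.eq_zero_of_cover L m γ hcov fun W g hg => ?_
  obtain ⟨_, b, e, ⟨i⟩, hg'⟩ := hg
  obtain ⟨x, hx, hx0⟩ := hT₀' _ (f i) (hf i)
  have h0 : (D.HS L m).obj.map (f i).op γ = 0 := by
    rw [← hx, D.eq_zero_of_killed hL m nV (hY i).1 (hY i).2 x hx0, map_zero]
  rw [← hg', op_comp, Functor.map_comp, ConcreteCategory.comp_apply, h0, map_zero]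

end SecData

end Groth.Agent.HDU
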