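import Groth.Agent.HDU.Basic

/-!
Comparison of hypercohomology groups through sections of K-injective complexes.
-/

set_option autoImplicit false
set_option linter.style.haveILetI false
set_option backward.isDefEq.respectTransparency false
set_option backward.isDefEq.respectTransparency.types false

universe w w' u

open CategoryTheory Category Limits Opposite DerivedCategory

namespace Groth.Agent.HDU

variable {C : Type u} [SmallCategory C] {J : GrothendieckTopology C}
  [HasDerivedCategory.{w} (Sheaf J AddCommGrpCat.{u})]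
  {I : CochainComplex (Sheaf J AddCommGrpCat.{u}) ℤ}

/-- closed sections -/
abbrev closedSec (I : CochainComplex (Sheaf J AddCommGrpCat.{u}) ℤ) (n : ℤ) (U : C) :
    AddSubgroup ((I.X n).obj.obj (op U)) :=
  ((I.d n (n + 1)).hom.app (op U)).hom.ker

/-- the class map on closed sections -/
noncomputable def clsHom (n : ℤ) (U : C) :
    closedSec I n U →+ CohCx.HDU ((Q : _ ⥤ DerivedCategory (Sheaf J AddCommGrpCat.{u})).obj I) n U :=
  AddMonoidHom.mk' (fun s => cls n U s.1 s.2) fun s t => cls_add n U s.1 t.1 s.2 t.2 _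

lemma clsHom_surjective [I.IsKInjective] (n : ℤ) (U : C) : Function.Surjective (clsHom (I := I) n U) :=
  fun x => by
    obtain ⟨s, hs, h⟩ := cls_surjective n U x
    exact ⟨⟨s, hs⟩, h⟩

variable {C' : Type u} [SmallCategory C'] {J' : GrothendieckTopology C'}
  [HasDerivedCategory.{w'} (Sheaf J' AddCommGrpCat.{u})]

/-- hypercohomology groups agree when complexes of sections agree -/
theorem nonempty_addEquiv_of_sections (I : CochainComplex (Sheaf J AddCommGrpCat.{u}) ℤ) [I.IsKInjective]
    (I' : CochainComplex (Sheaf J' AddCommGrpCat.{u}) ℤ) [I'.IsKInjective] (U : C) (U' : C')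
    (e : ∀ n : ℤ, (I.X n).obj.obj (op U) ≃+ (I'.X n).obj.obj (op U'))
    (he : ∀ (m n : ℤ) (x : (I.X m).obj.obj (op U)),
      e n ((I.d m n).hom.app (op U) x) = (I'.d m n).hom.app (op U') (e m x)) (n : ℤ) :
    Nonempty (CohCx.HDU ((Q : _ ⥤ DerivedCategory (Sheaf J AddCommGrpCat.{u})).obj I) n U ≃+
      CohCx.HDU ((Q : _ ⥤ DerivedCategory (Sheaf J' AddCommGrpCat.{u})).obj I') n U') := by
  have hmem : ∀ s, s ∈ closedSec I n U ↔ e n s ∈ closedSec I' n U' := fun s => by
    simp only [closedSec, AddMonoidHom.mem_ker]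
    exact ⟨fun h => (he n (n + 1) s).symm.trans (by rw [h, map_zero]),
      fun h => (e (n + 1)).injective (by rw [map_zero]; exact (he n (n + 1) s).trans h)⟩
  let f : closedSec I n U →+ CohCx.HDU ((Q : _ ⥤ DerivedCategory (Sheaf J' AddCommGrpCat.{u})).obj I') n U' :=
    AddMonoidHom.mk' (fun s => cls n U' (e n s.1) ((hmem _).1 s.2)) fun s t =>
      (cls_congr n U' _ (by rw [map_add, (hmem _).1 s.2, (hmem _).1 t.2, add_zero]) (map_add (e n) s.1 t.1)).trans
        (cls_add n U' _ _ _ _ _)
  have hf : Function.Surjective f := fun x => by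
    obtain ⟨s', hs', h⟩ := cls_surjective n U' x
    refine ⟨⟨(e n).symm s', (hmem _).2 (by rw [AddEquiv.apply_symm_apply]; exact hs')⟩, ?_⟩
    exact (cls_congr n U' (by rw [AddEquiv.apply_symm_apply]; exact hs') hs' ((e n).apply_symm_apply s')).trans h
  have hker : (clsHom (I := I) n U).ker = f.ker := by
    ext ⟨s, hs⟩
    simp only [AddMonoidHom.mem_ker, clsHom, f, AddMonoidHom.mk'_apply]
    rw [cls_eq_zero_iff, cls_eq_zero_iff]
    constructor
    · rintro ⟨t, ht⟩
      exact ⟨e (n - 1) t, by rw [← he]; exact congrArg (e n) ht⟩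
    · rintro ⟨t, ht⟩
      refine ⟨(e (n - 1)).symm t, (e n).injective ?_⟩
      rw [he, AddEquiv.apply_symm_apply]
      exact ht
  exact ⟨(QuotientAddGroup.quotientKerEquivOfSurjective _ (clsHom_surjective n U)).symm.trans
    ((QuotientAddGroup.quotientAddEquivOfEq hker).trans
      (QuotientAddGroup.quotientKerEquivOfSurjective f hf))⟩

end Groth.Agent.HDU
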