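import Groth.Agent.KInj.Ops
import Groth.Agent.SiteCoh.Basic
import Mathlib.Algebra.Homology.HomotopyCategory.HomComplexSingle
import Mathlib.Algebra.Homology.HomotopyCategory.HomComplexCohomology

/-!
Hyper-cohomology groups `Hom(P[0], K[n])` and `HDU` computed by K-injective complexes.
-/

set_option autoImplicit false
set_option linter.style.haveILetI false
set_option backward.isDefEq.respectTransparency false
set_option backward.isDefEq.respectTransparency.types false

universe w v u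

open CategoryTheory Category Limits Opposite DerivedCategory CochainComplex.HomComplex

namespace Groth.Agent.HDU

section Abelian

variable {A : Type u} [Category.{v} A] [Abelian A] [HasDerivedCategory.{w} A]
  {P : A} {I : CochainComplex A ℤ}

/-- the class in the derived category of a closed element of degree `n` -/
noncomputable def cl (n : ℤ) (f : P ⟶ I.X n) (hf : f ≫ I.d n (n + 1) = 0) :
    (Q : _ ⥤ DerivedCategory A).obj ((CochainComplex.singleFunctor A 0).obj P) ⟶
      (shiftFunctor (DerivedCategory A) n).obj (Q.obj I) :=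
  (Q : _ ⥤ DerivedCategory A).map
      (Cocycle.equivHomShift.symm (Cocycle.fromSingleMk f (zero_add n) (n + 1) rfl hf)) ≫
    ((Q : _ ⥤ DerivedCategory A).commShiftIso n).hom.app I

lemma cl_congr (n : ℤ) {f g : P ⟶ I.X n} (hf : f ≫ I.d n (n + 1) = 0)
    (hg : g ≫ I.d n (n + 1) = 0) (h : f = g) : cl n f hf = cl n g hg := by
  subst h; rfl

lemma cl_add (n : ℤ) (f g : P ⟶ I.X n) (hf : f ≫ I.d n (n + 1) = 0)
    (hg : g ≫ I.d n (n + 1) = 0) (hfg : (f + g) ≫ I.d n (n + 1) = 0) :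
    cl n (f + g) hfg = cl n f hf + cl n g hg := by
  simp only [cl]
  rw [Cocycle.fromSingleMk_add f g (zero_add n) (n + 1) rfl hf hg, map_add, Functor.map_add,
    Preadditive.add_comp]

lemma cl_precomp {P' : A} (g : P' ⟶ P) (n : ℤ) (f : P ⟶ I.X n) (hf : f ≫ I.d n (n + 1) = 0)
    (hgf : (g ≫ f) ≫ I.d n (n + 1) = 0) :
    cl n (g ≫ f) hgf =
      (Q : _ ⥤ DerivedCategory A).map ((CochainComplex.singleFunctor A 0).map g) ≫ cl n f hf := by
  simp only [cl]
  rw [Cocycle.fromSingleMk_precomp g f (zero_add n) (n + 1) rfl hf,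
    Cocycle.equivHomShift_symm_precomp, Functor.map_comp, Category.assoc]

lemma cl_postcomp {L : CochainComplex A ℤ} (φ : I ⟶ L) (n : ℤ) (f : P ⟶ I.X n)
    (hf : f ≫ I.d n (n + 1) = 0) (hfφ : (f ≫ φ.f n) ≫ L.d n (n + 1) = 0) :
    cl n (f ≫ φ.f n) hfφ = cl n f hf ≫ (Q.map φ)⟦n⟧' := by
  simp only [cl]
  rw [Cocycle.fromSingleMk_postcomp f (zero_add n) (n + 1) rfl hf φ,
    Cocycle.equivHomShift_symm_postcomp, Functor.map_comp, Category.assoc, Category.assoc]
  congr 1
  exact ((Q : _ ⥤ DerivedCategory A).commShiftIso n).hom.naturality φ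

lemma cl_surjective [I.IsKInjective] (n : ℤ)
    (x : (Q : _ ⥤ DerivedCategory A).obj ((CochainComplex.singleFunctor A 0).obj P) ⟶
      (shiftFunctor (DerivedCategory A) n).obj (Q.obj I)) :
    ∃ (f : P ⟶ I.X n) (hf : f ≫ I.d n (n + 1) = 0), cl n f hf = x := by
  obtain ⟨φ, hφ⟩ := Groth.Agent.KInj.Q_map_surjective
    (K := (CochainComplex.singleFunctor A 0).obj P) (I := I⟦n⟧)
    (x ≫ ((Q : _ ⥤ DerivedCategory A).commShiftIso n).inv.app I)
  obtain ⟨z, rfl⟩ := Cocycle.equivHomShift.symm.surjective φ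
  obtain ⟨f, hf, rfl⟩ := Cocycle.fromSingleMk_surjective z n (zero_add n) (n + 1) rfl
  refine ⟨f, hf, ?_⟩
  rw [cl, hφ, Category.assoc, Iso.inv_hom_id_app]
  exact Category.comp_id _

lemma cl_eq_zero_iff [I.IsKInjective] (n : ℤ) (f : P ⟶ I.X n) (hf : f ≫ I.d n (n + 1) = 0) :
    cl n f hf = 0 ↔ ∃ g : P ⟶ I.X (n - 1), g ≫ I.d (n - 1) n = f := by
  rw [← Cocycle.fromSingleMk_mem_coboundaries_iff f (zero_add n) (n + 1) rfl hf (n - 1) (by lia),
    ← CohomologyClass.toHom_mk_eq_zero_iff, CohomologyClass.toHom_mk]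
  set φ := Cocycle.equivHomShift.symm (Cocycle.fromSingleMk f (zero_add n) (n + 1) rfl hf) with hφ
  have h1 : cl n f hf = 0 ↔ (Q : _ ⥤ DerivedCategory A).map φ = 0 := by
    refine ⟨fun h => ?_, fun h => by rw [cl, ← hφ, h, zero_comp]⟩
    rw [← cancel_mono (((Q : _ ⥤ DerivedCategory A).commShiftIso n).hom.app I), zero_comp, hφ]
    exact h
  rw [h1]
  refine ⟨fun h => ?_, fun h => ?_⟩
  · obtain ⟨H⟩ := Groth.Agent.KInj.nonempty_homotopy_of_Q_map_eq (f := φ) (g := 0)
      (h.trans (Functor.map_zero _ _ _).symm)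
    rw [← Functor.map_zero (HomotopyCategory.quotient A (ComplexShape.up ℤ))]
    exact HomotopyCategory.eq_of_homotopy _ _ (Homotopy.equivSubZero.symm H)
  · rw [← Functor.map_zero (HomotopyCategory.quotient A (ComplexShape.up ℤ))] at h
    exact (Groth.Agent.KInj.Q_map_eq_of_homotopy
      (Homotopy.equivSubZero (HomotopyCategory.homotopyOfEq _ _ h))).trans (Functor.map_zero _ _ _)

end Abelian

section Site

variable {C : Type u} [SmallCategory C] {J : GrothendieckTopology C}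
  {I : CochainComplex (Sheaf J AddCommGrpCat.{u}) ℤ}

lemma sec_closed (n : ℤ) (U : C) (s : (I.X n).obj.obj (op U))
    (hs : (I.d n (n + 1)).hom.app (op U) s = 0) :
    (SiteCoh.secEquiv U (I.X n)).symm s ≫ I.d n (n + 1) = 0 :=
  (SiteCoh.secEquiv U _).injective (((SiteCoh.secEquiv_comp _ _).trans
    ((congr_arg ((I.d n (n + 1)).hom.app (op U))
      ((SiteCoh.secEquiv U _).apply_symm_apply s)).trans hs)).trans (map_zero _).symm)

variable [HasDerivedCategory.{w} (Sheaf J AddCommGrpCat.{u})]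

/-- the class of a closed section -/
noncomputable def cls (n : ℤ) (U : C) (s : (I.X n).obj.obj (op U))
    (hs : (I.d n (n + 1)).hom.app (op U) s = 0) :
    CohCx.HDU ((Q : _ ⥤ DerivedCategory (Sheaf J AddCommGrpCat.{u})).obj I) n U :=
  cl n ((SiteCoh.secEquiv U (I.X n)).symm s) (sec_closed n U s hs)

lemma cls_congr (n : ℤ) (U : C) {s t : (I.X n).obj.obj (op U)}
    (hs : (I.d n (n + 1)).hom.app (op U) s = 0) (ht : (I.d n (n + 1)).hom.app (op U) t = 0)
    (h : s = t) : cls n U s hs = cls n U t ht := by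
  subst h; rfl

lemma cls_add (n : ℤ) (U : C) (s t : (I.X n).obj.obj (op U))
    (hs : (I.d n (n + 1)).hom.app (op U) s = 0) (ht : (I.d n (n + 1)).hom.app (op U) t = 0)
    (hst : (I.d n (n + 1)).hom.app (op U) (s + t) = 0) :
    cls n U (s + t) hst = cls n U s hs + cls n U t ht :=
  (cl_congr n _ (by rw [Preadditive.add_comp, sec_closed n U s hs, sec_closed n U t ht, add_zero])
    (map_add (SiteCoh.secEquiv U (I.X n)).symm s t)).trans (cl_add n _ _ _ _ _)

lemma cls_res (n : ℤ) {U V : C} (a : V ⟶ U) (s : (I.X n).obj.obj (op U))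
    (hs : (I.d n (n + 1)).hom.app (op U) s = 0)
    (hsV : (I.d n (n + 1)).hom.app (op V) ((I.X n).obj.map a.op s) = 0) :
    cls n V ((I.X n).obj.map a.op s) hsV = CohCx.HDUres _ n a (cls n U s hs) := by
  refine (cl_congr n _ (by rw [Category.assoc, sec_closed n U s hs, comp_zero]) ?_).trans
    (cl_precomp (CohCx.freeSheafMap J a) n _ (sec_closed n U s hs) _)
  apply (SiteCoh.secEquiv V (I.X n)).injective
  rw [SiteCoh.secEquiv_freeSheafMap, AddEquiv.apply_symm_apply, AddEquiv.apply_symm_apply]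

lemma cls_postcomp {L : CochainComplex (Sheaf J AddCommGrpCat.{u}) ℤ} (φ : I ⟶ L) (n : ℤ) (U : C)
    (s : (I.X n).obj.obj (op U)) (hs : (I.d n (n + 1)).hom.app (op U) s = 0)
    (hsφ : (L.d n (n + 1)).hom.app (op U) ((φ.f n).hom.app (op U) s) = 0) :
    cls n U ((φ.f n).hom.app (op U) s) hsφ = cls n U s hs ≫ (Q.map φ)⟦n⟧' := by
  refine (cl_congr n _ (by rw [Category.assoc, φ.comm, reassoc_of% (sec_closed n U s hs), zero_comp])
    ?_).trans (cl_postcomp φ n _ (sec_closed n U s hs) _)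
  apply (SiteCoh.secEquiv U (L.X n)).injective
  rw [AddEquiv.apply_symm_apply, SiteCoh.secEquiv_comp, AddEquiv.apply_symm_apply]

lemma cls_surjective [I.IsKInjective] (n : ℤ) (U : C)
    (x : CohCx.HDU ((Q : _ ⥤ DerivedCategory (Sheaf J AddCommGrpCat.{u})).obj I) n U) :
    ∃ (s : (I.X n).obj.obj (op U)) (hs : (I.d n (n + 1)).hom.app (op U) s = 0),
      cls n U s hs = x := by
  obtain ⟨f, hf, rfl⟩ := cl_surjective n x
  refine ⟨SiteCoh.secEquiv U _ f, ?_, cl_congr n _ hf ((SiteCoh.secEquiv U _).symm_apply_apply f)⟩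
  rw [← SiteCoh.secEquiv_comp, hf, map_zero]

lemma cls_eq_zero_iff [I.IsKInjective] (n : ℤ) (U : C) (s : (I.X n).obj.obj (op U))
    (hs : (I.d n (n + 1)).hom.app (op U) s = 0) :
    cls n U s hs = 0 ↔
      ∃ t : (I.X (n - 1)).obj.obj (op U), (I.d (n - 1) n).hom.app (op U) t = s := by
  refine (cl_eq_zero_iff n _ (sec_closed n U s hs)).trans ⟨?_, ?_⟩
  · rintro ⟨g, hg⟩
    exact ⟨SiteCoh.secEquiv U _ g,
      (SiteCoh.secEquiv_comp g _).symm.trans (by rw [hg, AddEquiv.apply_symm_apply])⟩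
  · rintro ⟨t, rfl⟩
    refine ⟨(SiteCoh.secEquiv U _).symm t, (SiteCoh.secEquiv U (I.X n)).injective ?_⟩
    rw [SiteCoh.secEquiv_comp, AddEquiv.apply_symm_apply, AddEquiv.apply_symm_apply]

end Site

end Groth.Agent.HDU
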