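import Groth.Agent.HDU.LimitCohomology
import Mathlib.Algebra.Homology.ShortComplex.Ab

/-!
Cohomology of limits of towers of complexes.
-/

set_option autoImplicit false
set_option linter.style.haveILetI false
set_option backward.isDefEq.respectTransparency false
set_option backward.isDefEq.respectTransparency.types false
set_option maxHeartbeats 1000000

universe u

open CategoryTheory Category Limits Opposite

namespace Groth.Agent.HDU

section Ab

variable (K : CochainComplex AddCommGrpCat.{u} ℤ) (i : ℤ)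

lemma iCycles_injective_ab : Function.Injective (K.iCycles i) :=
  (AddCommGrpCat.mono_iff_injective _).1 inferInstance

lemma homologyπ_surjective_ab : Function.Surjective (K.homologyπ i) :=
  (AddCommGrpCat.epi_iff_surjective _).1 inferInstance

lemma exists_cycle_ab (x : K.X i) (hx : K.d i (i + 1) x = 0) : ∃ z, K.iCycles i z = x := by
  have h : (ShortComplex.mk (K.iCycles i) (K.d i (i + 1)) (by simp)).Exact :=
    ShortComplex.exact_of_f_is_kernel _ (K.cyclesIsKernel i (i + 1) (by simp))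
  exact (ShortComplex.ab_exact_iff _).1 h x hx

lemma d_iCycles_ab (j : ℤ) (z : K.cycles i) : K.d i j (K.iCycles i z) = 0 :=
  ConcreteCategory.congr_hom (K.iCycles_d i j) z

lemma homologyπ_eq_zero_iff (z : K.cycles i) :
    K.homologyπ i z = 0 ↔ ∃ y, K.d (i - 1) i y = K.iCycles i z := by
  have h : (ShortComplex.mk (K.toCycles (i - 1) i) (K.homologyπ i) (by simp)).Exact :=
    ShortComplex.exact_of_g_is_cokernel _ (K.homologyIsCokernel (i - 1) i (by simp))
  constructor
  · intro hz
    obtain ⟨y, hy⟩ := (ShortComplex.ab_exact_iff _).1 h z hz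
    exact ⟨y, (ConcreteCategory.congr_hom (K.toCycles_i (i - 1) i) y).symm.trans
      (congrArg (K.iCycles i) hy)⟩
  · rintro ⟨y, hy⟩
    have : K.toCycles (i - 1) i y = z :=
      iCycles_injective_ab K i ((ConcreteCategory.congr_hom (K.toCycles_i (i - 1) i) y).trans hy)
    rw [← this]
    exact ConcreteCategory.congr_hom (K.toCycles_comp_homologyπ (i - 1) i) y

variable {K} {L : CochainComplex AddCommGrpCat.{u} ℤ}

lemma homologyMap_π (f : K ⟶ L) (z : K.cycles i) :
    HomologicalComplex.homologyMap f i (K.homologyπ i z) =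
      L.homologyπ i (HomologicalComplex.cyclesMap f i z) :=
  ConcreteCategory.congr_hom (HomologicalComplex.homologyπ_naturality f i) z

lemma iCycles_cyclesMap (f : K ⟶ L) (z : K.cycles i) :
    L.iCycles i (HomologicalComplex.cyclesMap f i z) = f.f i (K.iCycles i z) :=
  ConcreteCategory.congr_hom (HomologicalComplex.cyclesMap_i f i) z

end Ab

section Tower

variable (G : ℕ → CochainComplex AddCommGrpCat.{u} ℤ) (s : ∀ n, G (n + 1) ⟶ G n) (m : ℤ) (n₀ : ℕ)
  (hc : ∀ k : ℕ, IsIso (HomologicalComplex.homologyMap (CohCx.transition G s n₀ k) m))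

include hc in
/-- classes killed at `n₀` are killed everywhere, in a compatible system -/
lemma exists_primitive (x : ∀ n, (G n).X m) (hx : ∀ n, (s n).f m (x (n + 1)) = x n)
    (hxd : ∀ n, (G n).d m (m + 1) (x n) = 0) (y₀ : (G n₀).X (m - 1)) (hy₀ : (G n₀).d (m - 1) m y₀ = x n₀) :
    ∀ n, ∃ y, (G n).d (m - 1) m y = x n := by
  have hup : ∀ k, ∃ y, (G (n₀ + k)).d (m - 1) m y = x (n₀ + k) := fun k => by
    obtain ⟨z, hz⟩ := exists_cycle_ab (G (n₀ + k)) m (x (n₀ + k)) (hxd _)
    have htr : ∀ k, (CohCx.transition G s n₀ k).f m (x (n₀ + k)) = x n₀ := fun k => by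
      induction k with
      | zero => rfl
      | succ k ih =>
        change (CohCx.transition G s n₀ k).f m ((s (n₀ + k)).f m (x (n₀ + k + 1))) = x n₀
        rw [hx, ih]
    have := hc k
    have h0 : (G (n₀ + k)).homologyπ m z = 0 := by
      refine (ConcreteCategory.bijective_of_isIso
        (HomologicalComplex.homologyMap (CohCx.transition G s n₀ k) m)).1 ?_
      rw [map_zero, homologyMap_π, homologyπ_eq_zero_iff]
      exact ⟨y₀, by rw [iCycles_cyclesMap, hz, htr, hy₀]⟩
    obtain ⟨y, hy⟩ := (homologyπ_eq_zero_iff _ _ _).1 h0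
    exact ⟨y, hy.trans hz⟩
  have hdown : ∀ k n, n + k = n₀ → ∃ y, (G n).d (m - 1) m y = x n := fun k => by
    induction k with
    | zero => rintro n rfl; exact ⟨y₀, hy₀⟩
    | succ k ih =>
      intro n hn
      obtain ⟨y, hy⟩ := ih (n + 1) (by omega)
      refine ⟨(s n).f (m - 1) y, ?_⟩
      rw [← hx n, ← hy]
      exact ConcreteCategory.congr_hom ((s n).comm (m - 1) m) y
  intro n
  rcases le_total n₀ n with h | h
  · obtain ⟨k, rfl⟩ := Nat.exists_eq_add_of_le h
    exact hup k
  · obtain ⟨k, hk⟩ := Nat.exists_eq_add_of_le h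
    exact hdown k n hk.symm

variable (ha : ∀ j : ℤ, (j = m - 2 ∨ j = m - 1) →
    CohCx.LimOneIsZero (fun n => (G n).X j) (fun n => ((s n).f j).hom))

include hc ha in
/-- injectivity on cohomology of the limit -/
theorem exists_compatible_primitive
    (hb : CohCx.LimOneIsZero (fun n => (G n).homology (m - 1))
      (fun n => (HomologicalComplex.homologyMap (s n) (m - 1)).hom))
    (x : ∀ n, (G n).X m) (hx : ∀ n, (s n).f m (x (n + 1)) = x n)
    (hxd : ∀ n, (G n).d m (m + 1) (x n) = 0) (y₀ : (G n₀).X (m - 1)) (hy₀ : (G n₀).d (m - 1) m y₀ = x n₀) :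
    ∃ y : ∀ n, (G n).X (m - 1), (∀ n, (s n).f (m - 1) (y (n + 1)) = y n) ∧
      ∀ n, (G n).d (m - 1) m (y n) = x n := by
  choose y hy using exists_primitive G s m n₀ hc x hx hxd y₀ hy₀
  have hc' : ∀ n, (G n).d (m - 1) (m - 1 + 1) ((s n).f (m - 1) (y (n + 1)) - y n) = 0 := fun n => by
    rw [show m - 1 + 1 = m by omega, map_sub, hy n, sub_eq_zero]
    exact (ConcreteCategory.congr_hom ((s n).comm (m - 1) m) (y (n + 1))).trans
      ((congrArg ((s n).f m) (hy (n + 1))).trans (hx n))
  choose c hcc using fun n => exists_cycle_ab (G n) (m - 1) _ (hc' n)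
  obtain ⟨w, hw⟩ := hb fun n => (G n).homologyπ (m - 1) (c n)
  choose wz hwz using fun n => homologyπ_surjective_ab (G n) (m - 1) (w n)
  have hu : ∀ n, ∃ v, (G n).d (m - 1 - 1) (m - 1) v = (G n).iCycles (m - 1)
      (c n - (wz n - HomologicalComplex.cyclesMap (s n) (m - 1) (wz (n + 1)))) := fun n => by
    refine (homologyπ_eq_zero_iff _ _ _).1 ?_
    rw [map_sub, map_sub, ← homologyMap_π, hwz, hwz, sub_eq_zero]
    exact (congrFun hw n).symm
  choose v hv using hu
  obtain ⟨r, hr⟩ := ha (m - 1 - 1) (Or.inl (by omega)) v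
  let w' : ∀ n, (G n).X (m - 1) := fun n => (G n).iCycles (m - 1) (wz n) + (G n).d (m - 1 - 1) (m - 1) (r n)
  refine ⟨fun n => y n + w' n, fun n => ?_, fun n => ?_⟩
  · have h1 : (G n).iCycles (m - 1) (c n) = w' n - (s n).f (m - 1) (w' (n + 1)) := by
      have h2 := hv n
      rw [← congrFun hr n, map_sub, map_sub] at h2
      simp only [w', map_add]
      rw [map_sub, iCycles_cyclesMap] at h2
      have h3 : (s n).f (m - 1) ((G (n + 1)).d (m - 1 - 1) (m - 1) (r (n + 1))) =
          (G n).d (m - 1 - 1) (m - 1) ((s n).f (m - 1 - 1) (r (n + 1))) :=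
        (ConcreteCategory.congr_hom ((s n).comm (m - 1 - 1) (m - 1)) (r (n + 1))).symm
      rw [h3]
      rw [sub_eq_iff_eq_add] at h2
      rw [h2]
      abel
    rw [hcc n] at h1
    rw [map_add]
    rw [sub_eq_iff_eq_add] at h1
    rw [h1]
    abel
  · rw [map_add, hy n]
    simp only [w', map_add, d_iCycles_ab, zero_add]
    rw [show (G n).d (m - 1) m ((G n).d (m - 1 - 1) (m - 1) (r n)) = 0 from
      ConcreteCategory.congr_hom ((G n).d_comp_d (m - 1 - 1) (m - 1) m) (r n), add_zero]

include hc ha in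
/-- surjectivity on cohomology of the limit -/
theorem exists_compatible_cycle (x₀ : (G n₀).X m) (hx₀ : (G n₀).d m (m + 1) x₀ = 0) :
    ∃ x : ∀ n, (G n).X m, (∀ n, (s n).f m (x (n + 1)) = x n) ∧ (∀ n, (G n).d m (m + 1) (x n) = 0) ∧
      ∃ y, (G n₀).d (m - 1) m y = x n₀ - x₀ := by
  obtain ⟨z₀, hz₀⟩ := exists_cycle_ab (G n₀) m x₀ hx₀
  have hs : ∀ n, n₀ ≤ n → Function.Surjective (HomologicalComplex.homologyMap (s n) m) := fun n hn => by
    obtain ⟨k, rfl⟩ := Nat.exists_eq_add_of_le hn
    have := hc k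
    have h1 := hc (k + 1)
    have : IsIso (HomologicalComplex.homologyMap (s (n₀ + k)) m) := by
      have e : HomologicalComplex.homologyMap (s (n₀ + k)) m ≫
          HomologicalComplex.homologyMap (CohCx.transition G s n₀ k) m =
          HomologicalComplex.homologyMap (CohCx.transition G s n₀ (k + 1)) m :=
        (HomologicalComplex.homologyMap_comp _ _ _).symm
      exact IsIso.of_isIso_fac_right e
    exact (ConcreteCategory.bijective_of_isIso _).2
  obtain ⟨h, hh, hh₀⟩ := exists_compatible (fun n => (G n).homology m)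
    (fun n => HomologicalComplex.homologyMap (s n) m) n₀ hs ((G n₀).homologyπ m z₀)
  choose z hz using fun n => homologyπ_surjective_ab (G n) m (h n)
  have hy : ∀ n, ∃ y, (G n).d (m - 1) m y =
      (G n).iCycles m (HomologicalComplex.cyclesMap (s n) m (z (n + 1)) - z n) := fun n => by
    refine (homologyπ_eq_zero_iff _ _ _).1 ?_
    rw [map_sub, ← homologyMap_π, hz, hz, sub_eq_zero]
    exact hh n
  choose y hy using hy
  obtain ⟨v, hv⟩ := ha (m - 1) (Or.inr rfl) y
  refine ⟨fun n => (G n).iCycles m (z n) + (G n).d (m - 1) m (v n), fun n => ?_, fun n => ?_, ?_⟩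
  · have h2 := hy n
    rw [← congrFun hv n, map_sub, map_sub, iCycles_cyclesMap] at h2
    rw [map_add, show (s n).f m ((G (n + 1)).d (m - 1) m (v (n + 1))) =
        (G n).d (m - 1) m ((s n).f (m - 1) (v (n + 1))) from
      (ConcreteCategory.congr_hom ((s n).comm (m - 1) m) (v (n + 1))).symm]
    rw [eq_sub_iff_add_eq] at h2
    rw [← h2]
    abel
  · rw [map_add, d_iCycles_ab, zero_add]
    exact ConcreteCategory.congr_hom ((G n).d_comp_d (m - 1) m (m + 1)) (v n)
  · obtain ⟨y', hy'⟩ := (homologyπ_eq_zero_iff (G n₀) m (z n₀ - z₀)).1 (by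
      rw [map_sub, hz, hh₀, sub_self])
    refine ⟨y' + v n₀, ?_⟩
    rw [map_add, hy', map_sub, hz₀]
    exact sub_add_eq_add_sub _ _ _

end Tower

section Sheaf

variable {C : Type u} [SmallCategory C] {J : GrothendieckTopology C}
  (F : ℕ → CochainComplex (Sheaf J AddCommGrpCat.{u}) ℤ) (t : ∀ n, F (n + 1) ⟶ F n) (m : ℤ)

lemma sectCx_transition (U : C) (n : ℕ) : ∀ k : ℕ,
    (CohCx.sectCx J U).map (CohCx.transition F t n k) =
      CohCx.transition (fun n => (CohCx.sectCx J U).obj (F n)) (fun n => (CohCx.sectCx J U).map (t n)) n k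
  | 0 => (CohCx.sectCx J U).map_id _
  | k + 1 => by
    rw [CohCx.transition, CohCx.transition, Functor.map_comp, sectCx_transition U n k]

lemma limit_f_ext (j : ℤ) (U : C) {x y : ((limit (CohCx.opSequence F t)).X j).obj.obj (op U)}
    (h : ∀ n : ℕ, ((limit.π (CohCx.opSequence F t) (op n)).f j).hom.app (op U) x =
      ((limit.π (CohCx.opSequence F t) (op n)).f j).hom.app (op U) y) : x = y := by
  let ev := HomologicalComplex.eval (Sheaf J AddCommGrpCat.{u}) (ComplexShape.up ℤ) j ⋙
    sheafToPresheaf J AddCommGrpCat.{u} ⋙ (evaluation Cᵒᵖ AddCommGrpCat.{u}).obj (op U)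
  refine Concrete.isLimit_ext _ (isLimitOfPreserves ev (limit.isLimit (CohCx.opSequence F t))) x y
    fun ⟨n⟩ => ?_
  exact h n

lemma exists_limit_f (j : ℤ) (U : C) (x : ∀ n, ((F n).X j).obj.obj (op U))
    (hx : ∀ n, ((t n).f j).hom.app (op U) (x (n + 1)) = x n) :
    ∃ z : ((limit (CohCx.opSequence F t)).X j).obj.obj (op U),
      ∀ n : ℕ, ((limit.π (CohCx.opSequence F t) (op n)).f j).hom.app (op U) z = x n := by
  let G := CohCx.opSequence F t ⋙ HomologicalComplex.eval (Sheaf J AddCommGrpCat.{u}) (ComplexShape.up ℤ) j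
  obtain ⟨z, hz⟩ := exists_limit_section (F := G) U x (fun n => by
    refine (ConcreteCategory.congr_hom (congr_arg
      (fun φ : (F (n + 1)).X j ⟶ (F n).X j => φ.hom.app (op U)) ?_) (x (n + 1))).trans (hx n)
    change ((CohCx.opSequence F t).map (homOfLE (Nat.le_succ n)).op).f j = (t n).f j
    exact congrArg (fun φ : F (n + 1) ⟶ F n => φ.f j) (Functor.ofOpSequence_map_homOfLE_succ _ n))
  let e : limit G ≅ (limit (CohCx.opSequence F t)).X j :=
    (preservesLimitIso (HomologicalComplex.eval (Sheaf J AddCommGrpCat.{u}) (ComplexShape.up ℤ) j)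
      (CohCx.opSequence F t)).symm
  refine ⟨e.hom.hom.app (op U) z, fun n => ?_⟩
  refine Eq.trans ?_ (hz n)
  exact ConcreteCategory.congr_hom (congr_arg
    (fun φ : limit G ⟶ (F n).X j => φ.hom.app (op U))
    (preservesLimitIso_inv_π (HomologicalComplex.eval (Sheaf J AddCommGrpCat.{u}) (ComplexShape.up ℤ) j)
      (CohCx.opSequence F t) (op n))) z

variable (B : Set C)
  (hB : ∀ U : C, ∃ (ι : Type u) (Y : ι → C) (f : ∀ i, Y i ⟶ U), Sieve.ofArrows Y f ∈ J U ∧ ∀ i, Y i ∈ B)
  (n₀ : ℕ)
  (ha : ∀ U ∈ B, ∀ j : ℤ, (j = m - 2 ∨ j = m - 1) → CohCx.LimOneIsZero (fun n => ((F n).X j).obj.obj (op U))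
    (fun n => (((t n).f j).hom.app (op U)).hom))
  (hb : ∀ U ∈ B, CohCx.LimOneIsZero (fun n => ((CohCx.sectCx J U).obj (F n)).homology (m - 1))
    (fun n => (HomologicalComplex.homologyMap ((CohCx.sectCx J U).map (t n)) (m - 1)).hom))
  (hc : ∀ U ∈ B, ∀ k : ℕ,
    IsIso (HomologicalComplex.homologyMap ((CohCx.sectCx J U).map (CohCx.transition F t n₀ k)) m))

lemma cycles_apply {A B : CochainComplex (Sheaf J AddCommGrpCat.{u}) ℤ} (φ : A ⟶ B) (i : ℤ) (U : C)
    (z : (A.cycles i).obj.obj (op U)) :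
    (B.iCycles i).hom.app (op U) ((HomologicalComplex.cyclesMap φ i).hom.app (op U) z) =
      (φ.f i).hom.app (op U) ((A.iCycles i).hom.app (op U) z) :=
  ConcreteCategory.congr_hom (congr_arg (fun ψ : A.cycles i ⟶ B.X i => ψ.hom.app (op U))
    (HomologicalComplex.cyclesMap_i φ i)) z

lemma homology_apply {A B : CochainComplex (Sheaf J AddCommGrpCat.{u}) ℤ} (φ : A ⟶ B) (i : ℤ) (U : C)
    (z : (A.cycles i).obj.obj (op U)) :
    (HomologicalComplex.homologyMap φ i).hom.app (op U) ((A.homologyπ i).hom.app (op U) z) =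
      (B.homologyπ i).hom.app (op U) ((HomologicalComplex.cyclesMap φ i).hom.app (op U) z) :=
  ConcreteCategory.congr_hom (congr_arg (fun ψ : A.cycles i ⟶ B.homology i => ψ.hom.app (op U))
    (HomologicalComplex.homologyπ_naturality φ i)) z

lemma homologyπ_boundary (K : CochainComplex (Sheaf J AddCommGrpCat.{u}) ℤ) (i : ℤ) (U : C)
    (z : (K.cycles i).obj.obj (op U)) (y : (K.X (i - 1)).obj.obj (op U))
    (hy : (K.d (i - 1) i).hom.app (op U) y = (K.iCycles i).hom.app (op U) z) :
    (K.homologyπ i).hom.app (op U) z = 0 := by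
  have h : (K.toCycles (i - 1) i).hom.app (op U) y = z := iCycles_app_injective K i U
    ((ConcreteCategory.congr_hom (congr_arg (fun ψ : K.X (i - 1) ⟶ K.X i => ψ.hom.app (op U))
      (K.toCycles_i (i - 1) i)) y).trans hy)
  rw [← h]
  exact ConcreteCategory.congr_hom (congr_arg (fun ψ : K.X (i - 1) ⟶ K.homology i => ψ.hom.app (op U))
    (K.toCycles_comp_homologyπ (i - 1) i)) y

lemma locally_cycle (K : CochainComplex (Sheaf J AddCommGrpCat.{u}) ℤ) (i : ℤ) (U : C)
    (h : (K.homology i).obj.obj (op U)) :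
    Presheaf.imageSieve (K.homologyπ i).hom h ∈ J U :=
  haveI := (Sheaf.isLocallySurjective_iff_epi' AddCommGrpCat.{u} (K.homologyπ i)).2 inferInstance
  Presheaf.imageSieve_mem J (K.homologyπ i).hom h

lemma locally_boundary (K : CochainComplex (Sheaf J AddCommGrpCat.{u}) ℤ) (i : ℤ) (U : C)
    (z : (K.cycles i).obj.obj (op U)) (hz : (K.homologyπ i).hom.app (op U) z = 0) :
    ∃ S ∈ J U, ∀ (V : C) (g : V ⟶ U), S g → ∃ y, (K.d (i - 1) i).hom.app (op V) y =
      (K.X i).obj.map g.op ((K.iCycles i).hom.app (op U) z) := by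
  let S := ShortComplex.mk (K.toCycles (i - 1) i) (K.homologyπ i) (by simp)
  have hS : S.Exact := ShortComplex.exact_of_g_is_cokernel _ (K.homologyIsCokernel (i - 1) i (by simp))
  have := (Sheaf.isLocallySurjective_iff_epi' AddCommGrpCat.{u}
    (kernel.lift (K.homologyπ i) (K.toCycles (i - 1) i) S.zero)).2 (S.exact_iff_epi_kernel_lift.1 hS)
  let k : CohCx.freeSheaf J U ⟶ kernel (K.homologyπ i) :=
    kernel.lift _ ((SiteCoh.secEquiv U _).symm z) ((SiteCoh.secEquiv U _).injective
      (by rw [SiteCoh.secEquiv_comp, AddEquiv.apply_symm_apply, map_zero]; exact hz))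
  refine ⟨_, Presheaf.imageSieve_mem J
    (kernel.lift (K.homologyπ i) (K.toCycles (i - 1) i) S.zero).hom (SiteCoh.secEquiv U _ k), ?_⟩
  rintro V g ⟨y, hy⟩
  refine ⟨y, ?_⟩
  have h2 : (K.toCycles (i - 1) i).hom.app (op V) y = (K.cycles i).obj.map g.op z := by
    have h3 := congrArg ((kernel.ι (K.homologyπ i)).hom.app (op V)).hom hy
    refine Eq.trans ?_ (h3.trans ?_)
    · exact (ConcreteCategory.congr_hom (congr_arg
        (fun ψ : K.X (i - 1) ⟶ K.cycles i => ψ.hom.app (op V))
        (kernel.lift_ι (K.homologyπ i) (K.toCycles (i - 1) i) S.zero)) y).symm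
    · refine (NatTrans.naturality_apply (kernel.ι (K.homologyπ i)).hom g.op _).trans
        (congrArg ((K.cycles i).obj.map g.op).hom ?_)
      rw [← SiteCoh.secEquiv_comp, kernel.lift_ι, AddEquiv.apply_symm_apply]
  refine ((ConcreteCategory.congr_hom (congr_arg (fun ψ : K.X (i - 1) ⟶ K.X i => ψ.hom.app (op V))
    (K.toCycles_i (i - 1) i)) y).symm.trans ?_)
  exact (congrArg ((K.iCycles i).hom.app (op V)).hom h2).trans
    (NatTrans.naturality_apply (K.iCycles i).hom g.op z)

include hB ha hb hc in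
/-- cohomology sheaves of a limit of complexes -/
theorem isIso_homologyMap_limit_π :
    IsIso (HomologicalComplex.homologyMap (limit.π (CohCx.opSequence F t) (op n₀)) m) := by
  let L := limit (CohCx.opSequence F t)
  let π : ∀ n, L ⟶ F n := fun n => limit.π (CohCx.opSequence F t) (op n)
  have hw : ∀ n, π (n + 1) ≫ t n = π n := fun n => by
    refine Eq.trans ?_ (limit.w (CohCx.opSequence F t) (homOfLE (Nat.le_succ n)).op)
    congr 1
    exact (Functor.ofOpSequence_map_homOfLE_succ _ n).symm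
  have hw' : ∀ (n : ℕ) (j : ℤ) (U : C) (x : (L.X j).obj.obj (op U)),
      ((t n).f j).hom.app (op U) (((π (n + 1)).f j).hom.app (op U) x) = ((π n).f j).hom.app (op U) x :=
    fun n j U x => ConcreteCategory.congr_hom (congr_arg
      (fun ψ : L.X j ⟶ (F n).X j => ψ.hom.app (op U)) (congrArg (fun φ : L ⟶ F n => φ.f j) (hw n))) x
  let φ := HomologicalComplex.homologyMap (π n₀) m
  change IsIso φ
  have hc' : ∀ U ∈ B, ∀ k : ℕ, IsIso (HomologicalComplex.homologyMap
      (CohCx.transition (fun n => (CohCx.sectCx J U).obj (F n)) (fun n => (CohCx.sectCx J U).map (t n)) n₀ k) m) :=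
    fun U hU k => sectCx_transition F t U n₀ k ▸ hc U hU k
  have : Sheaf.IsLocallyInjective φ := ⟨fun {U} γ₁ γ₂ heq => by
    have hγ : φ.hom.app U (γ₁ - γ₂) = 0 := by rw [map_sub, sub_eq_zero]; exact heq
    refine J.transitive (locally_cycle L m U.unop (γ₁ - γ₂)) _ fun V g hg => ?_
    obtain ⟨z, hz⟩ := hg
    have h0 : ((F n₀).homologyπ m).hom.app (op V)
        ((HomologicalComplex.cyclesMap (π n₀) m).hom.app (op V) z) = 0 := by
      rw [← homology_apply, hz]
      exact (NatTrans.naturality_apply φ.hom g.op _).trans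
        ((congrArg (((F n₀).homology m).obj.map g.op).hom hγ).trans (map_zero _))
    obtain ⟨S, hS, hS'⟩ := locally_boundary (F n₀) m V _ h0
    obtain ⟨ι, Z, f, hf, hcov, hZ⟩ := exists_refinement_in B hB S hS
    refine J.superset_covering ?_ hcov
    rintro W a ⟨_, b, e, ⟨i⟩, rfl⟩
    refine Sieve.downward_closed _ ?_ b
    obtain ⟨y₀, hy₀⟩ := hS' _ (f i) (hf i)
    let x := (L.iCycles m).hom.app (op (Z i)) ((L.cycles m).obj.map (f i).op z)
    obtain ⟨y, hy, hy'⟩ := exists_compatible_primitive (fun n => (CohCx.sectCx J (Z i)).obj (F n))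
      (fun n => (CohCx.sectCx J (Z i)).map (t n)) m n₀ (hc' _ (hZ i)) (ha _ (hZ i)) (hb _ (hZ i))
      (fun n => ((π n).f m).hom.app (op (Z i)) x) (fun n => hw' n m (Z i) x)
      (fun n => by
        refine (ConcreteCategory.congr_hom (congr_arg (fun ψ : L.X m ⟶ (F n).X (m + 1) => ψ.hom.app (op (Z i)))
          ((π n).comm m (m + 1))) x).trans ?_
        exact (congrArg (((π n).f (m + 1)).hom.app (op (Z i))).hom (d_iCycles_apply L m (m + 1) (Z i) _)).trans
          (map_zero _))
      y₀ (by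
        refine hy₀.trans ?_
        rw [cycles_apply]
        refine (NatTrans.naturality_apply ((π n₀).f m).hom (f i).op _).symm.trans ?_
        exact congrArg (((π n₀).f m).hom.app (op (Z i))).hom
          (NatTrans.naturality_apply (L.iCycles m).hom (f i).op z).symm)
    obtain ⟨Y, hY⟩ := exists_limit_f F t (m - 1) (Z i) y hy
    have hdY : (L.d (m - 1) m).hom.app (op (Z i)) Y = x := limit_f_ext F t m (Z i) fun n =>
      ((ConcreteCategory.congr_hom (congr_arg (fun ψ : L.X (m - 1) ⟶ (F n).X m => ψ.hom.app (op (Z i)))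
        ((π n).comm (m - 1) m)) Y).symm.trans
          ((congrArg (((F n).d (m - 1) m).hom.app (op (Z i))).hom (hY n)).trans (hy' n)))
    have hzero := homologyπ_boundary L m (Z i) _ Y hdY
    change (L.homology m).obj.map (f i ≫ g).op γ₁ = (L.homology m).obj.map (f i ≫ g).op γ₂
    rw [← sub_eq_zero, ← map_sub, op_comp, Functor.map_comp, ConcreteCategory.comp_apply, ← hz,
      ← hzero]
    exact (NatTrans.naturality_apply (L.homologyπ m).hom (f i).op z).symm⟩
  have : Sheaf.IsLocallySurjective φ := ⟨fun {U} γ => by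
    refine J.transitive (locally_cycle (F n₀) m U γ) _ fun V g hg => ?_
    obtain ⟨z₀, hz₀⟩ := hg
    obtain ⟨ι, Z, f, hcov, hZ⟩ := hB V
    refine J.superset_covering ?_ hcov
    rintro W a ⟨_, b, e, ⟨i⟩, rfl⟩
    refine Sieve.downward_closed _ ?_ b
    let z₁ := ((F n₀).cycles m).obj.map (f i).op z₀
    obtain ⟨x, hx, hxd, y, hy⟩ := exists_compatible_cycle (fun n => (CohCx.sectCx J (Z i)).obj (F n))
      (fun n => (CohCx.sectCx J (Z i)).map (t n)) m n₀ (hc' _ (hZ i)) (ha _ (hZ i))
      (((F n₀).iCycles m).hom.app (op (Z i)) z₁) (d_iCycles_apply (F n₀) m (m + 1) (Z i) z₁)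
    obtain ⟨X, hX⟩ := exists_limit_f F t m (Z i) x hx
    obtain ⟨Zc, hZc⟩ := exists_cycle_of_closed L m (Z i) X (limit_f_ext F t (m + 1) (Z i) fun n => by
      refine (ConcreteCategory.congr_hom (congr_arg (fun ψ : L.X m ⟶ (F n).X (m + 1) => ψ.hom.app (op (Z i)))
        ((π n).comm m (m + 1))) X).symm.trans ?_
      exact ((congrArg (((F n).d m (m + 1)).hom.app (op (Z i))).hom (hX n)).trans (hxd n)).trans (map_zero _).symm)
    refine ⟨(L.homologyπ m).hom.app (op (Z i)) Zc, ?_⟩
    rw [homology_apply, op_comp, Functor.map_comp, ConcreteCategory.comp_apply, ← hz₀]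
    refine Eq.trans ?_ (NatTrans.naturality_apply ((F n₀).homologyπ m).hom (f i).op z₀)
    rw [← sub_eq_zero, ← map_sub]
    refine homologyπ_boundary (F n₀) m (Z i) _ y ?_
    rw [map_sub, cycles_apply, hZc]
    refine hy.trans ?_
    exact congrArg (fun w : ((F n₀).X m).obj.obj (op (Z i)) => w - ((F n₀).iCycles m).hom.app (op (Z i)) z₁) (hX n₀).symm⟩
  have : Mono φ := Sheaf.mono_of_isLocallyInjective φ
  have : Epi φ := inferInstance
  exact isIso_of_mono_of_epi _

end Sheaf

end Groth.Agent.HDU
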