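import Groth.Agent.HDU.TowerLimit

/-!
Refinements by a covering class; consequences for abelian sheaves.
-/

set_option autoImplicit false
set_option linter.style.haveILetI false
set_option backward.isDefEq.respectTransparency false
set_option backward.isDefEq.respectTransparency.types false

universe u

open CategoryTheory Category Limits Opposite DerivedCategory

namespace Groth.Agent.HDU

variable {C : Type u} [SmallCategory C] {J : GrothendieckTopology C}

lemma exists_refinement_in (B : Set C)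
    (hB : ∀ U : C, ∃ (ι : Type u) (Y : ι → C) (f : ∀ i, Y i ⟶ U), Sieve.ofArrows Y f ∈ J U ∧ ∀ i, Y i ∈ B)
    {V : C} (T : Sieve V) (hT : T ∈ J V) :
    ∃ (ι : Type u) (Z : ι → C) (f : ∀ i, Z i ⟶ V),
      (∀ i, T.arrows (f i)) ∧ Sieve.ofArrows Z f ∈ J V ∧ ∀ i, Z i ∈ B := by
  choose κ Z f hf hZ using hB
  let ι := Σ W : C, Σ _ : {g : W ⟶ V // T g}, κ W
  refine ⟨ι, fun x => Z x.1 x.2.2, fun x => f x.1 x.2.2 ≫ x.2.1.1,
    fun x => T.downward_closed x.2.1.2 _, ?_, fun x => hZ x.1 x.2.2⟩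
  refine J.transitive hT _ fun W g hg => ?_
  refine J.superset_covering ?_ (hf W)
  rintro W' a ⟨_, b, c, ⟨i⟩, rfl⟩
  refine ⟨_, b, f W i ≫ g, Presieve.ofArrows.mk (⟨W, ⟨g, hg⟩, i⟩ : ι), ?_⟩
  simp

variable [HasDerivedCategory.{u} (Sheaf J AddCommGrpCat.{u})]

lemma van_pos (F : Sheaf J AddCommGrpCat.{u}) (U : C)
    (h : ∀ p : ℕ, Subsingleton (CohSite.HU F (p + 1) U)) (j : ℤ) (hj : 0 < j) :
    (abData J).Van F j U := by
  obtain ⟨p, rfl⟩ : ∃ p : ℕ, j = ((p + 1 : ℕ) : ℤ) := ⟨(j - 1).toNat, by omega⟩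
  exact van_of_subsingleton J F (p + 1) U (h p)

/-- the comparison map is bijective on acyclic objects -/
theorem η_bijective_on (K : DerivedCategory (Sheaf J AddCommGrpCat.{u})) (B : Set C)
    (hB : ∀ U : C, ∃ (ι : Type u) (Y : ι → C) (f : ∀ i, Y i ⟶ U), Sieve.ofArrows Y f ∈ J U ∧ ∀ i, Y i ∈ B)
    (h : ∀ U ∈ B, ∀ (p : ℕ) (q : ℤ), Subsingleton (CohSite.HU (CohCx.HD K q) (p + 1) U))
    (U : C) (hU : U ∈ B) (q : ℤ) : Function.Bijective ((abData J).η K q U) := by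
  have : HasProduct (CohCx.truncTower K) :=
    have := hasProduct_derived (A := Sheaf J AddCommGrpCat.{u}) (T := ULift.{u} ℕ)
      (fun n => CohCx.truncTower K n.down)
    hasLimit_of_iso (F := (Discrete.equivalence (Equiv.ulift.{u}.symm : ℕ ≃ ULift.{u} ℕ)).functor ⋙
        Discrete.functor fun n : ULift.{u} ℕ => CohCx.truncTower K n.down)
      (Discrete.natIso fun _ => Iso.refl _)
  refine η_bijective_of_acyclic (abData J) K
    (isRlimVia_of_locally_bounded (abData J) K B hB fun V hV => ⟨fun _ => 0, fun T hT => ?_⟩) U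
    (fun j hj i => van_pos _ U (fun p => h U hU p i) j hj) q
  obtain ⟨ι, Z, f, hfT, hcov, hZ⟩ := exists_refinement_in B hB T hT
  refine ⟨ι, Z, f, hfT, hcov, fun i m k hk => ?_⟩
  exact van_pos _ (Z i) (fun p => h (Z i) (hZ i) p _) _ hk

open TopologicalSpace in
lemma basis_cover {X : TopCat.{u}} (B : Set (Opens X)) (hB : Opens.IsBasis B) (U : Opens X) :
    ∃ (ι : Type u) (Y : ι → Opens X) (f : ∀ i, Y i ⟶ U),
      Sieve.ofArrows Y f ∈ Opens.grothendieckTopology X U ∧ ∀ i, Y i ∈ B := by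
  refine ⟨{W : Opens X // W ∈ B ∧ W ≤ U}, fun i => i.1, fun i => homOfLE i.2.2, fun x hx => ?_,
    fun i => i.2.1⟩
  obtain ⟨W, hW, hxW, hWU⟩ := Opens.isBasis_iff_nbhd.1 hB hx
  exact ⟨W, homOfLE hWU, ⟨W, 𝟙 _, homOfLE hWU,
    Presieve.ofArrows.mk (⟨W, hW, hWU⟩ : {W : Opens X // W ∈ B ∧ W ≤ U}), Category.id_comp _⟩, hxW⟩

end Groth.Agent.HDU
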