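import Groth.Agent.HDU.Site

/-!
Objects as derived limits of their truncations.
-/

set_option autoImplicit false
set_option linter.style.haveILetI false
set_option linter.unusedSectionVars false
set_option backward.isDefEq.respectTransparency false
set_option backward.isDefEq.respectTransparency.types false

universe w u

open CategoryTheory Category Limits Opposite Pretriangulated DerivedCategory DerivedCategory.TStructure

namespace Groth.Agent.HDU

variable {A : Type (u + 1)} [Category.{u} A] [Abelian A] {C : Type u} [SmallCategory C]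
  {J : GrothendieckTopology C} (D : SecData A J) [HasDerivedCategory.{w} A]

local notation "Hd" => DerivedCategory.homologyFunctor A

lemma SecData.van_iso {F G : A} (e : F ≅ G) (j : ℤ) (U : C) (h : D.Van F j U) : D.Van G j U :=
  @Equiv.subsingleton _ _ (((shiftFunctor (DerivedCategory A) j).mapIso
    ((DerivedCategory.singleFunctor A 0).mapIso e)).homToEquiv).symm h

lemma isIso_H_transition (E : DerivedCategory A) (n : ℕ) (m : ℤ) (hm : -(n : ℤ) ≤ m) :
    ∀ k : ℕ, IsIso ((Hd m).map (CohCx.transition (CohCx.truncTower E) (CohCx.truncTowerMap E) n k))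
  | 0 => by rw [CohCx.transition]; erw [CategoryTheory.Functor.map_id]; infer_instance
  | k + 1 => by
    rw [CohCx.transition, Functor.map_comp]
    have := isIso_H_transition E n m hm k
    have : IsIso ((Hd m).map (CohCx.truncTowerMap E (n + k))) :=
      isIso_H_natTransTruncGE E _ _ _ m (by omega)
    infer_instance

/-- the bottom of a truncation -/
noncomputable def bottomIso (E : DerivedCategory A) (n : ℕ) :
    (Hd (-(n : ℤ) - 1)).obj E ≅ (Hd (-(n : ℤ) - 1)).obj (CohCx.truncTower E (n + 1)) :=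
  haveI := isIso_H_truncGEπ E (-((n + 1 : ℕ) : ℤ)) (-(n : ℤ) - 1) (by omega)
  asIso ((Hd (-(n : ℤ) - 1)).map (CohCx.toTruncTower E (n + 1)))

lemma tower_step_injective (E : DerivedCategory A) (n : ℕ) (U : C) (j : ℤ)
    (h : D.Van ((Hd (-(n : ℤ) - 1)).obj E) (j + n + 1) U) :
    Function.Injective (fun x : D.HG (CohCx.truncTower E (n + 1)) j U => x ≫ (CohCx.truncTowerMap E n)⟦j⟧') := by
  refine injective_comp (CohCx.truncTowerMap E n) (-(n : ℤ) - 1) ?_ ?_
    (fun i hi => isIso_H_natTransTruncGE E _ _ _ i (by omega)) j ?_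
  · exact TStructure.t.isGE_truncGE_obj E _ _ (by omega)
  · exact TStructure.t.isGE_truncGE_obj E _ _ (by omega)
  · rw [show j - (-(n : ℤ) - 1) = j + n + 1 by omega]
    exact D.van_iso (bottomIso E n) _ U h

lemma tower_step_surjective (E : DerivedCategory A) (n : ℕ) (U : C) (j : ℤ)
    (h : D.Van ((Hd (-(n : ℤ) - 1)).obj E) (j + n + 2) U) :
    Function.Surjective (fun x : D.HG (CohCx.truncTower E (n + 1)) j U => x ≫ (CohCx.truncTowerMap E n)⟦j⟧') := by
  refine surjective_comp (CohCx.truncTowerMap E n) (-(n : ℤ) - 1) ?_ ?_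
    (fun i hi => isIso_H_natTransTruncGE E _ _ _ i (by omega)) j ?_
  · exact TStructure.t.isGE_truncGE_obj E _ _ (by omega)
  · exact TStructure.t.isGE_truncGE_obj E _ _ (by omega)
  · rw [show j + 1 - (-(n : ℤ) - 1) = j + n + 2 by omega]
    exact D.van_iso (bottomIso E n) _ U h

/-- the hypotheses for injectivity on a derived limit of truncations -/
lemma tower_conditions (E : DerivedCategory A) (N : ℕ) (m : ℤ) (Y : C)
    (h : ∀ n : ℕ, N ≤ n → D.Van ((Hd (-(n : ℤ) - 1)).obj E) (m + n + 1) Y) :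
    (∀ z : ∀ n, D.HG (CohCx.truncTower E n) (m - 1) Y, ∃ w : ∀ n, D.HG (CohCx.truncTower E n) (m - 1) Y,
      ∀ n, w n - w (n + 1) ≫ (CohCx.truncTowerMap E n)⟦m - 1⟧' = z n) ∧
    ∀ k : ℕ, ∀ x : D.HG (CohCx.truncTower E (N + k)) m Y,
      x ≫ (CohCx.transition (CohCx.truncTower E) (CohCx.truncTowerMap E) N k)⟦m⟧' = 0 → x = 0 := by
  refine ⟨fun z => ?_, fun k => ?_⟩
  · obtain ⟨w, hw⟩ := exists_limOne_of_eventually_surjective
      (fun n => D.HG (CohCx.truncTower E n) (m - 1) Y)
      (fun n => Preadditive.rightComp _ ((CohCx.truncTowerMap E n)⟦m - 1⟧')) N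
      (fun n hn => tower_step_surjective D E n Y (m - 1)
        (by rw [show m - 1 + (n : ℤ) + 2 = m + n + 1 by omega]; exact h n hn)) z
    exact ⟨w, fun n => congrFun hw n⟩
  · induction k with
    | zero =>
      intro x hx
      rw [CohCx.transition] at hx
      erw [CategoryTheory.Functor.map_id] at hx
      exact (Category.comp_id x).symm.trans hx
    | succ k ih =>
      intro x hx
      rw [CohCx.transition, Functor.map_comp, ← Category.assoc] at hx
      exact tower_step_injective D E (N + k) Y m (h (N + k) (by omega))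
        ((ih _ hx).trans zero_comp.symm)

variable [IsGrothendieckAbelian.{u} A]

/-- an object is the derived limit of its truncations when cohomology sheaves of derived limits inject -/
theorem isRlimVia_truncTower (E : DerivedCategory A) [HasProduct (CohCx.truncTower E)]
    (h : ∀ (L : DerivedCategory A) (a : ∀ n, L ⟶ CohCx.truncTower E n),
      CohCx.IsRlimVia (CohCx.truncTower E) (CohCx.truncTowerMap E) L a →
      ∀ (m : ℤ) (N : ℕ), -(N : ℤ) ≤ m → ∀ (U : C) (γ : (D.HS L m).obj.obj (op U)),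
        (D.Φ.map ((Hd m).map (a N))).hom.app (op U) γ = 0 → γ = 0) :
    CohCx.IsRlimVia (CohCx.truncTower E) (CohCx.truncTowerMap E) E (CohCx.toTruncTower E) := by
  obtain ⟨L, a, hL⟩ := exists_rlim (CohCx.truncTower E) (CohCx.truncTowerMap E)
  obtain ⟨f, hf⟩ := exists_map_to_rlim hL (CohCx.toTruncTower E)
    (fun n => t.π_natTransTruncGEOfLE_app _ _ _ E)
  have : IsIso f := by
    obtain ⟨Z, g, k, hT⟩ := distinguished_cocone_triangle f
    refine (Triangle.isZero₃_iff_isIso₁ _ hT).1 ?_
    have hb : ∀ i : ℤ, IsIso ((Hd i).map f) := fun m => by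
      have hN : -(((-m).toNat : ℕ) : ℤ) ≤ m := by omega
      have : IsIso ((Hd m).map (CohCx.toTruncTower E (-m).toNat)) := isIso_H_truncGEπ E _ m hN
      have hfac : (Hd m).map f ≫ (Hd m).map (a (-m).toNat) = (Hd m).map (CohCx.toTruncTower E (-m).toNat) := by
        rw [← Functor.map_comp, hf]
      have : Mono (D.Φ.map ((Hd m).map (a (-m).toNat))) := by
        refine (sheafToPresheaf J AddCommGrpCat.{u}).mono_of_mono_map ?_
        refine @NatTrans.mono_of_mono_app _ _ _ _ _ _ _ fun U => ?_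
        exact (AddCommGrpCat.mono_iff_injective _).2
          ((injective_iff_map_eq_zero _).mpr fun γ hγ => h L a hL m _ hN U.unop γ hγ)
      have : Mono ((Hd m).map (a (-m).toNat)) := D.Φ.mono_of_mono_map this
      have : Epi ((Hd m).map (a (-m).toNat)) := epi_of_epi_fac hfac
      have : IsIso ((Hd m).map (a (-m).toNat)) := isIso_of_mono_of_epi _
      exact IsIso.of_isIso_fac_right hfac
    have hge : ∀ n : ℤ, Z.IsGE n := fun n => (isGE_iff Z n).2 fun i _ => by
      have := hb i; have := hb (i + 1)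
      refine (HomologySequence.exact₃ _ hT i (i + 1) rfl).isZero_of_both_zeros ?_ ?_
      · rw [← cancel_epi ((Hd i).map f), comp_zero, ← Functor.map_comp]
        exact ((Hd i).congr_map (comp_distTriang_mor_zero₁₂ _ hT)).trans (Functor.map_zero _ _ _)
      · rw [← cancel_mono ((Hd (i + 1)).map f), zero_comp]
        exact HomologySequence.δ_comp _ hT i (i + 1) rfl
    have hle : Z.IsLE 0 := (isLE_iff Z 0).2 fun i hi => by
      have := hge (i + 1)
      exact isZero_of_isGE Z (i + 1) i (by omega)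
    have := hge 1
    exact TStructure.t.isZero Z 0 1 (by omega)
  exact isRlimVia_of_iso hL f _ hf

lemma killed_of_le {E L : DerivedCategory A} {a : ∀ n, L ⟶ CohCx.truncTower E n}
    [HasProduct (CohCx.truncTower E)]
    (hL : CohCx.IsRlimVia (CohCx.truncTower E) (CohCx.truncTowerMap E) L a) (m : ℤ) (N k : ℕ)
    (hN : -(N : ℤ) ≤ m) (U : C) (γ : (D.HS L m).obj.obj (op U))
    (hγ : (D.Φ.map ((Hd m).map (a N))).hom.app (op U) γ = 0) :
    (D.Φ.map ((Hd m).map (a (N + k)))).hom.app (op U) γ = 0 := by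
  have := isIso_H_transition E N m hN k
  have h : D.Φ.map ((Hd m).map (a (N + k))) = D.Φ.map ((Hd m).map (a N)) ≫
      inv (D.Φ.map ((Hd m).map (CohCx.transition (CohCx.truncTower E) (CohCx.truncTowerMap E) N k))) := by
    rw [IsIso.eq_comp_inv, ← Functor.map_comp, ← Functor.map_comp, comp_transition hL]
  exact (ConcreteCategory.congr_hom (congr_arg (fun φ : D.Φ.obj _ ⟶ D.Φ.obj _ => φ.hom.app (op U)) h) γ).trans
    ((congrArg ((inv (D.Φ.map ((Hd m).map (CohCx.transition (CohCx.truncTower E) (CohCx.truncTowerMap E) N k)))).hom.app (op U)).hom hγ).trans (map_zero _))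

/-- locally bounded vanishing: the site version -/
theorem isRlimVia_of_locally_bounded (E : DerivedCategory A) [HasProduct (CohCx.truncTower E)] (B : Set C)
    (hB : ∀ U : C, ∃ (ι : Type u) (Y : ι → C) (f : ∀ i, Y i ⟶ U), Sieve.ofArrows Y f ∈ J U ∧ ∀ i, Y i ∈ B)
    (h : ∀ V ∈ B, ∃ p : ℤ → ℤ, ∀ T ∈ J V, ∃ (ι : Type u) (Y : ι → C) (f : ∀ i, Y i ⟶ V),
      (∀ i, T.arrows (f i)) ∧ Sieve.ofArrows Y f ∈ J V ∧
      ∀ (i : ι) (m : ℤ) (k : ℕ), p m < k → D.Van ((Hd (m - k)).obj E) (k : ℤ) (Y i)) :
    CohCx.IsRlimVia (CohCx.truncTower E) (CohCx.truncTowerMap E) E (CohCx.toTruncTower E) := by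
  refine isRlimVia_truncTower D E fun L a hL m N₀ hN₀ U γ hγ => ?_
  obtain ⟨ι, Z, f, hcov, hYB⟩ := hB U
  refine D.eq_zero_of_cover L m γ hcov fun W g hg => ?_
  obtain ⟨_, b, e, ⟨i⟩, hg'⟩ := hg
  suffices h0 : (D.HS L m).obj.map (f i).op γ = 0 by
    rw [← hg', op_comp, Functor.map_comp, ConcreteCategory.comp_apply, h0, map_zero]
  obtain ⟨p, hp⟩ := h (Z i) (hYB i)
  have hk : (D.Φ.map ((Hd m).map (a (N₀ + (p m - m).toNat)))).hom.app (op (Z i))
      ((D.HS L m).obj.map (f i).op γ) = 0 :=
    ((NatTrans.naturality_apply (D.Φ.map ((Hd m).map (a (N₀ + (p m - m).toNat)))).hom (f i).op γ)).trans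
      (by rw [killed_of_le D hL m N₀ _ hN₀ U γ hγ, map_zero])
  refine D.injective_of_rlim hL (Z i) m (N₀ + (p m - m).toNat) (fun T hT => ?_) (hk.trans (map_zero _).symm)
  obtain ⟨ι', Y', f', hf', hcov', hY'⟩ := hp T hT
  refine ⟨ι', Y', f', hf', hcov', fun j => tower_conditions D E _ m (Y' j) fun n hn => ?_⟩
  have := hY' j m (m + n + 1).toNat (by omega)
  rw [show m - ((m + (n : ℤ) + 1).toNat : ℤ) = -(n : ℤ) - 1 by omega,
    show ((m + (n : ℤ) + 1).toNat : ℤ) = m + n + 1 by omega] at this
  exact this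

omit [IsGrothendieckAbelian.{u} A] in
lemma toH0_bijective {P : A} (M : DerivedCategory A) [M.IsGE 0] :
    Function.Bijective (toH0 (P := P) (M := M)) := by
  refine ⟨fun x y h => ?_, fun v => ?_⟩
  · have : ((DerivedCategory.singleFunctor A 0).obj P).IsLE 0 := inferInstance
    rw [← sub_eq_zero]
    refine CohDerRoofs.eq_zero_of_homology_eq_zero 0 _ ?_
    rw [← cancel_epi (WayOut.singleHomologyIso P 0).inv, comp_zero, Functor.map_sub, Preadditive.comp_sub]
    exact sub_eq_zero.2 h
  · have hle : ((t.truncLT 1).obj M).IsLE 0 := TStructure.t.isLE_truncLT_obj M 1 0 (by omega)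
    have hgeR : ((t.truncGE 1).obj M).IsGE 1 := isGE_truncGE M 1
    have hge : ((t.truncLT 1).obj M).IsGE 0 := (isGE_iff _ 0).2 fun i hi =>
      (HomologySequence.exact₁ _ (t.triangleLTGE_distinguished 1 M) (i - 1) i (by omega)).isZero_of_both_zeros
        ((isZero_of_isGE ((t.truncGE 1).obj M) 1 (i - 1) (by omega)).eq_of_src _ _)
        ((isZero_of_isGE M 0 i hi).eq_of_tgt _ _)
    have : IsIso ((Hd 0).map ((t.truncLTι 1).app M)) :=
      WayOut.isIso_H_mor₁ _ (t.triangleLTGE_distinguished 1 M) 1 0 hgeR (by omega)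
    obtain ⟨y, hy⟩ := exists_hom_of_H0 P ((t.truncLT 1).obj M)
      ((WayOut.singleHomologyIso P 0).hom ≫ v ≫ inv ((Hd 0).map ((t.truncLTι 1).app M)))
    refine ⟨y ≫ (t.truncLTι 1).app M, ?_⟩
    rw [toH0, Functor.map_comp, hy]
    simp

omit [IsGrothendieckAbelian.{u} A] in
lemma η_bijective_of_isGE (M : DerivedCategory A) (q : ℤ) [M.IsGE q] (U : C) :
    Function.Bijective (D.η M q U) := by
  have : ((shiftFunctor (DerivedCategory A) q).obj M).IsGE 0 := TStructure.t.isGE_shift M q q 0 (by omega)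
  exact (D.sec U _).bijective.comp (((Iso.homCongr (Iso.refl _)
    (((Hd 0).shiftIso q 0 q (by omega)).app M)).bijective.comp (toH0_bijective (P := D.P U) _)).imp
      (fun h x y hxy => h (by simpa [Iso.homCongr] using! hxy))
      (fun h y => by obtain ⟨x, hx⟩ := h y; exact ⟨x, by simpa [Iso.homCongr] using! hx⟩))

omit [IsGrothendieckAbelian.{u} A] in
lemma sections_map_bijective {M M' : A} (f : M ⟶ M') [IsIso f] (U : C) :
    Function.Bijective ((D.Φ.map f).hom.app (op U)) := by
  have : IsIso ((D.Φ.map f).hom.app (op U)) :=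
    inferInstanceAs (IsIso (((sheafToPresheaf J AddCommGrpCat.{u}).map (D.Φ.map f)).app (op U)))
  exact ConcreteCategory.bijective_of_isIso _

omit [IsGrothendieckAbelian.{u} A] in
/-- bounded below objects with acyclic cohomology -/
theorem η_bijective_of_acyclic_bounded (U : C) (q : ℤ) : ∀ (d : ℕ) (M : DerivedCategory A),
    M.IsGE (q - d) → (∀ (j : ℤ), 0 < j → ∀ i : ℤ, D.Van ((Hd i).obj M) j U) →
    Function.Bijective (D.η M q U)
  | 0, M, hM, _ => by
    rw [show q - ((0 : ℕ) : ℤ) = q by omega] at hM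
    exact η_bijective_of_isGE D M q U
  | d + 1, M, hM, hv => by
    have hM' : ((t.truncGE (q - d)).obj M).IsGE (q - d) := isGE_truncGE M _
    have hf : ∀ i, q - d ≤ i → IsIso ((Hd i).map ((t.truncGEπ (q - d)).app M)) :=
      fun i hi => isIso_H_truncGEπ M _ i hi
    have hrec : Function.Bijective (D.η ((t.truncGE (q - d)).obj M) q U) :=
      η_bijective_of_acyclic_bounded U q d _ hM' fun j hj i => by
        rcases le_or_gt (q - d) i with hi | hi
        · have := hf i hi
          exact D.van_iso (asIso ((Hd i).map ((t.truncGEπ (q - d)).app M))) j U (hv j hj i)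
        · refine @Equiv.subsingleton _ _ (Equiv.refl _) (subsingleton_of_forall_eq 0 fun x => ?_)
          exact (((shiftFunctor (DerivedCategory A) j).map_isZero
            ((DerivedCategory.singleFunctor A 0).map_isZero (isZero_of_isGE _ (q - d) i hi)))).eq_of_tgt _ _
    have hs : (((t.truncGE (q - d)).obj M)).IsGE (q - ((d + 1 : ℕ) : ℤ) + 1) := by
      rwa [show q - ((d + 1 : ℕ) : ℤ) + 1 = q - d by omega]
    have h1 := injective_comp ((t.truncGEπ (q - d)).app M) (q - ((d + 1 : ℕ) : ℤ)) hM hs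
      (fun i hi => hf i (by omega)) (P := D.P U) q (hv _ (by omega) _)
    have h2 := surjective_comp ((t.truncGEπ (q - d)).app M) (q - ((d + 1 : ℕ) : ℤ)) hM hs
      (fun i hi => hf i (by omega)) (P := D.P U) q (hv _ (by omega) _)
    have := hf q (by omega)
    have hsec := sections_map_bijective D ((Hd q).map ((t.truncGEπ (q - d)).app M)) U
    constructor
    · intro x y hxy
      refine h1 (hrec.1 ?_)
      erw [D.η_comp, D.η_comp, hxy]
    · intro y
      obtain ⟨x', hx'⟩ := hrec.2 ((D.Φ.map ((Hd q).map ((t.truncGEπ (q - d)).app M))).hom.app (op U) y)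
      obtain ⟨x, rfl⟩ := h2 x'
      exact ⟨x, hsec.1 ((D.η_comp _ q U x).symm.trans hx')⟩

omit [IsGrothendieckAbelian.{u} A] in
/-- acyclic cohomology sheaves: hypercohomology is sections of cohomology sheaves -/
theorem η_bijective_of_acyclic (E : DerivedCategory A) [HasProduct (CohCx.truncTower E)]
    (hE : CohCx.IsRlimVia (CohCx.truncTower E) (CohCx.truncTowerMap E) E (CohCx.toTruncTower E))
    (U : C) (hv : ∀ (j : ℤ), 0 < j → ∀ i : ℤ, D.Van ((Hd i).obj E) j U) (q : ℤ) :
    Function.Bijective (D.η E q U) := by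
  let N := (-q).toNat + 1
  have hvn : ∀ n : ℕ, ∀ (j : ℤ), 0 < j → ∀ i : ℤ, D.Van ((Hd i).obj (CohCx.truncTower E n)) j U := by
    intro n j hj i
    rcases le_or_gt (-(n : ℤ)) i with hi | hi
    · have := isIso_H_truncGEπ E _ i hi
      exact D.van_iso (asIso ((Hd i).map (CohCx.toTruncTower E n))) j U (hv j hj i)
    · refine subsingleton_of_forall_eq 0 fun x => ?_
      have : (CohCx.truncTower E n).IsGE (-(n : ℤ)) := isGE_truncGE E _
      exact (((shiftFunctor (DerivedCategory A) j).map_isZero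
        ((DerivedCategory.singleFunctor A 0).map_isZero (isZero_of_isGE _ (-(n : ℤ)) i hi)))).eq_of_tgt _ _
  have hη : Function.Bijective (D.η (CohCx.truncTower E N) q U) := by
    have : (CohCx.truncTower E N).IsGE (-(N : ℤ)) := isGE_truncGE E _
    refine η_bijective_of_acyclic_bounded D U q (q + N).toNat _ ?_ (hvn N)
    rwa [show q - ((q + N).toNat : ℤ) = -(N : ℤ) by omega]
  have hsec : Function.Bijective ((D.Φ.map ((Hd q).map (CohCx.toTruncTower E N))).hom.app (op U)) := by
    have := isIso_H_truncGEπ E (-(N : ℤ)) q (by omega)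
    exact sections_map_bijective D _ U
  have hc := tower_conditions D E N q U fun n hn => hv _ (by omega) _
  constructor
  · refine (injective_iff_map_eq_zero _).mpr fun x hx => ?_
    refine D.eq_zero_of_killed hE q N hc.1 hc.2 x (hη.1 ?_)
    erw [D.η_comp, hx, map_zero, map_zero]
  · intro y
    obtain ⟨x₀, hx₀⟩ := hη.2 ((D.Φ.map ((Hd q).map (CohCx.toTruncTower E N))).hom.app (op U) y)
    obtain ⟨x, hxc, hxN⟩ := exists_compatible (fun n => D.HG (CohCx.truncTower E n) q U)
      (fun n x => x ≫ (CohCx.truncTowerMap E n)⟦q⟧') N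
      (fun n hn => tower_step_surjective D E n U q (hv _ (by omega) _)) x₀
    obtain ⟨z, hz⟩ := exists_lift_rlim hE q x hxc
    refine ⟨z, hsec.1 ?_⟩
    rw [← hx₀, ← hxN, ← hz N]
    exact (D.η_comp (CohCx.toTruncTower E N) q U z).symm

end Groth.Agent.HDU
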