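import Groth.Agent.HDU.LimitCohomology

/-!
Derived limits of systems of acyclic sheaves.
-/

set_option autoImplicit false
set_option linter.style.haveILetI false
set_option backward.isDefEq.respectTransparency false
set_option backward.isDefEq.respectTransparency.types false
set_option maxHeartbeats 1000000

universe u

open CategoryTheory Category Limits Opposite DerivedCategory

namespace Groth.Agent.HDU

variable {C : Type u} [SmallCategory C] {J : GrothendieckTopology C}
  [HasDerivedCategory.{u} (Sheaf J AddCommGrpCat.{u})]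

lemma subsingleton_sections_of_isZero {G : Sheaf J AddCommGrpCat.{u}} (hG : IsZero G) (U : C) :
    Subsingleton (G.obj.obj (op U)) :=
  @Equiv.subsingleton _ _ (SiteCoh.secEquiv U G).symm.toEquiv ⟨fun f g => hG.eq_of_tgt f g⟩

lemma subsingleton_hu_of_iso {F G : Sheaf J AddCommGrpCat.{u}} (e : F ≅ G) (p : ℕ) (U : C)
    (h : Subsingleton (CohSite.HU F p U)) : Subsingleton (CohSite.HU G p U) := by
  have : Subsingleton (Abelian.Ext (CohCx.freeSheaf J U) F p) := h
  change Subsingleton (Abelian.Ext (CohCx.freeSheaf J U) G p)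
  refine subsingleton_of_forall_eq 0 fun x => ?_
  have : x = (x.comp (Abelian.Ext.mk₀ e.inv) (add_zero p)).comp (Abelian.Ext.mk₀ e.hom) (add_zero p) := by
    simp
  rw [this, Subsingleton.elim (x.comp (Abelian.Ext.mk₀ e.inv) (add_zero p)) 0, Abelian.Ext.zero_comp]

lemma subsingleton_hu_of_isZero {G : Sheaf J AddCommGrpCat.{u}} (hG : IsZero G) (p : ℕ) (U : C) :
    Subsingleton (CohSite.HU G p U) := by
  change Subsingleton (Abelian.Ext (CohCx.freeSheaf J U) G p)
  refine subsingleton_of_forall_eq 0 fun x => ?_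
  rw [← Abelian.Ext.comp_mk₀_id x, hG.eq_of_src (𝟙 G) 0, Abelian.Ext.mk₀_zero, Abelian.Ext.comp_zero]

/-- `H^0` of an object in degree zero -/
noncomputable def hdSingleIso (G : Sheaf J AddCommGrpCat.{u}) :
    CohCx.HD ((DerivedCategory.singleFunctor (Sheaf J AddCommGrpCat.{u}) 0).obj G) 0 ≅ G :=
  (singleFunctorCompHomologyFunctorIso (Sheaf J AddCommGrpCat.{u}) 0).app G

lemma isZero_hd_single (G : Sheaf J AddCommGrpCat.{u}) (q : ℤ) (hq : q ≠ 0) :
    IsZero (CohCx.HD ((DerivedCategory.singleFunctor (Sheaf J AddCommGrpCat.{u}) 0).obj G) q) := by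
  rcases lt_or_gt_of_ne hq with h | h
  · exact isZero_of_isGE _ 0 q h
  · exact isZero_of_isLE _ 0 q h

variable (F : ℕ → Sheaf J AddCommGrpCat.{u}) (t : ∀ n, F (n + 1) ⟶ F n)
  [HasProduct fun n => (DerivedCategory.singleFunctor (Sheaf J AddCommGrpCat.{u}) 0).obj (F n)]
  (B : Set C) (hB : ∀ U : C, ∃ (ι : Type u) (Y : ι → C) (f : ∀ i, Y i ⟶ U), Sieve.ofArrows Y f ∈ J U ∧ ∀ i, Y i ∈ B)
  (h1 : ∀ U ∈ B, ∀ (p n : ℕ), Subsingleton (CohSite.HU (F n) (p + 1) U))
  (h2 : ∀ U ∈ B, CohCx.LimOneIsZero (fun n => (F n).obj.obj (op U)) (fun n => ((t n).hom.app (op U)).hom))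

include hB h1 h2 in
/-- the limit of acyclic sheaves without `lim¹` is the derived limit, and is acyclic -/
theorem isRlim_single_limit :
    DCoh.IsRlim (fun n => (DerivedCategory.singleFunctor (Sheaf J AddCommGrpCat.{u}) 0).obj (F n))
      (fun n => (DerivedCategory.singleFunctor (Sheaf J AddCommGrpCat.{u}) 0).map (t n))
      ((DerivedCategory.singleFunctor (Sheaf J AddCommGrpCat.{u}) 0).obj (limit (CohCx.opSequence F t))) ∧
    ∀ U ∈ B, ∀ p : ℕ, Subsingleton (CohSite.HU (limit (CohCx.opSequence F t)) (p + 1) U) := by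
  let K := fun n => (DerivedCategory.singleFunctor (Sheaf J AddCommGrpCat.{u}) 0).obj (F n)
  let tK : ∀ n, K (n + 1) ⟶ K n :=
    fun n => (DerivedCategory.singleFunctor (Sheaf J AddCommGrpCat.{u}) 0).map (t n)
  obtain ⟨L, a, hL⟩ := exists_rlim K tK
  have hη : ∀ U ∈ B, ∀ (n : ℕ) (q : ℤ), Function.Bijective (η' (K n) q U) := fun U hU n q => by
    refine η_bijective_on (K n) B hB (fun V hV p i => ?_) U hU q
    by_cases hi : i = 0
    · subst hi
      exact subsingleton_hu_of_iso (hdSingleIso (F n)).symm (p + 1) V (h1 V hV p n)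
    · exact subsingleton_hu_of_isZero (isZero_hd_single (F n) i hi) (p + 1) V
  have h2' : ∀ U ∈ B, ∀ q : ℤ, CohCx.LimOneIsZero (fun n => (CohCx.HD (K n) q).obj.obj (op U))
      (fun n => (((DerivedCategory.homologyFunctor _ q).map (tK n)).hom.app (op U)).hom) := by
    intro U hU q
    by_cases hq : q = 0
    · subst hq
      intro z
      obtain ⟨w, hw⟩ := h2 U hU (fun n => (hdSingleIso (F n)).hom.hom.app (op U) (z n))
      refine ⟨fun n => (hdSingleIso (F n)).inv.hom.app (op U) (w n), funext fun n => ?_⟩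
      have hn := congrFun hw n
      have hnat : (hdSingleIso (F (n + 1))).inv ≫ (DerivedCategory.homologyFunctor _ 0).map (tK n) =
          t n ≫ (hdSingleIso (F n)).inv :=
        ((singleFunctorCompHomologyFunctorIso (Sheaf J AddCommGrpCat.{u}) 0).inv.naturality (t n)).symm
      change (hdSingleIso (F n)).inv.hom.app (op U) (w n) -
        ((DerivedCategory.homologyFunctor _ 0).map (tK n)).hom.app (op U)
          ((hdSingleIso (F (n + 1))).inv.hom.app (op U) (w (n + 1))) = z n
      rw [show ((DerivedCategory.homologyFunctor _ 0).map (tK n)).hom.app (op U)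
          ((hdSingleIso (F (n + 1))).inv.hom.app (op U) (w (n + 1))) =
          (hdSingleIso (F n)).inv.hom.app (op U) ((t n).hom.app (op U) (w (n + 1))) from
        ConcreteCategory.congr_hom (congr_arg
          (fun φ : F (n + 1) ⟶ CohCx.HD (K n) 0 => φ.hom.app (op U)) hnat) (w (n + 1)),
        ← map_sub]
      refine (congrArg ((hdSingleIso (F n)).inv.hom.app (op U)).hom hn).trans ?_
      exact ConcreteCategory.congr_hom (congr_arg
        (fun φ : CohCx.HD (K n) 0 ⟶ CohCx.HD (K n) 0 => φ.hom.app (op U)) (hdSingleIso (F n)).hom_inv_id) (z n)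
    · intro z
      have := fun n => subsingleton_sections_of_isZero (isZero_hd_single (F n) q hq) U
      exact ⟨0, funext fun n => (this n).elim _ _⟩
  have hiso := fun q => isIso_toLimit hL q B hB hη h2'
  have hz : ∀ q : ℤ, q ≠ 0 → IsZero (CohCx.HD L q) := fun q hq => by
    have := hiso q
    refine IsZero.of_iso ?_ (asIso (toLimit hL q))
    rw [IsZero.iff_id_eq_zero]
    exact limit.hom_ext fun ⟨n⟩ => (isZero_hd_single (F n) q hq).eq_of_tgt _ _
  have hGE : L.IsGE 0 := (isGE_iff L 0).2 fun i hi => hz i (by omega)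
  have hLE : L.IsLE 0 := (isLE_iff L 0).2 fun i hi => hz i (by omega)
  obtain ⟨Y, ⟨e⟩⟩ := exists_iso_singleFunctor_obj_of_isGE_of_isLE L 0
  have h0 := hiso 0
  let eF : HSeq K tK 0 ≅ CohCx.opSequence F t :=
    NatIso.ofComponents (fun n => hdSingleIso (F n.unop)) (fun {X Y} f => by
      have hnat : ∀ n, (DerivedCategory.homologyFunctor _ 0).map (tK n) ≫ (hdSingleIso (F n)).hom =
          (hdSingleIso (F (n + 1))).hom ≫ t n := fun n =>
        (singleFunctorCompHomologyFunctorIso (Sheaf J AddCommGrpCat.{u}) 0).hom.naturality (t n)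
      let η : HSeq K tK 0 ⟶ CohCx.opSequence F t :=
        NatTrans.ofOpSequence (fun n => (hdSingleIso (F n)).hom) fun n => by
          simp only [CohCx.opSequence, Functor.ofOpSequence_map_homOfLE_succ]
          exact hnat n
      exact η.naturality f)
  let eY : Y ≅ limit (CohCx.opSequence F t) :=
    (hdSingleIso Y).symm ≪≫ (DerivedCategory.homologyFunctor _ 0).mapIso e.symm ≪≫
      asIso (toLimit hL 0) ≪≫ HasLimit.isoOfNatIso eF
  let eL : (DerivedCategory.singleFunctor (Sheaf J AddCommGrpCat.{u}) 0).obj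
      (limit (CohCx.opSequence F t)) ≅ L :=
    (DerivedCategory.singleFunctor (Sheaf J AddCommGrpCat.{u}) 0).mapIso eY.symm ≪≫ e.symm
  refine ⟨isRlim_of_isRlimVia (isRlimVia_of_iso hL eL.hom (fun n => eL.hom ≫ a n) fun n => rfl),
    fun U hU p => ?_⟩
  have hvan : Subsingleton (CohCx.HDU L ((p + 1 : ℕ) : ℤ) U) := by
    refine subsingleton_of_forall_eq 0 fun x => ?_
    refine eq_zero_of_proj_zero (hη U hU) (h2' U hU) hL _ x fun n => (hη U hU n _).1 ?_
    exact (subsingleton_sections_of_isZero (isZero_hd_single (F n) _ (by omega)) U).elim _ _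
  change Subsingleton (Abelian.Ext (CohCx.freeSheaf J U) (limit (CohCx.opSequence F t)) (p + 1))
  exact @Equiv.subsingleton _ _
    (Abelian.Ext.homEquiv.trans ((shiftFunctor _ ((p + 1 : ℕ) : ℤ)).mapIso eL).homToEquiv) hvan

end Groth.Agent.HDU
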