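import Groth.Agent.HDU.Tower
import Groth.Prelude.Def_CohSite
import Groth.Agent.KInj.Ops
import Mathlib.Algebra.Homology.DerivedCategory.Ext.Basic
import Mathlib.CategoryTheory.Sites.LocallyBijective

/-!
The case of abelian sheaves.
-/

set_option autoImplicit false
set_option linter.style.haveILetI false
set_option backward.isDefEq.respectTransparency false
set_option backward.isDefEq.respectTransparency.types false

universe w v u u'

open CategoryTheory Category Limits Opposite DerivedCategory

namespace Groth.Agent.HDU

variable {C : Type u} [SmallCategory C] (J : GrothendieckTopology C)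

/-- abelian sheaves -/
noncomputable def abData : SecData (Sheaf J AddCommGrpCat.{u}) J where
  Φ := 𝟭 _
  P := CohCx.freeSheaf J
  Pmap a := CohCx.freeSheafMap J a
  sec U F := SiteCoh.secEquiv U F
  sec_comp φ f := SiteCoh.secEquiv_comp φ f
  sec_map a _ φ := SiteCoh.secEquiv_freeSheafMap a φ

/-- products exist in derived categories of Grothendieck abelian categories -/
lemma hasProduct_derived {A : Type u'} [Category.{v} A] [Abelian A] [IsGrothendieckAbelian.{v} A]
    [HasDerivedCategory.{w} A] {T : Type v} (K : T → DerivedCategory A) : HasProduct K := by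
  choose I hI e using fun t => exists_kInj_rep (K t)
  exact KInj.hasProduct_Q I hI K fun t => (e t).some

variable [HasDerivedCategory.{u} (Sheaf J AddCommGrpCat.{u})]

lemma van_of_subsingleton (F : Sheaf J AddCommGrpCat.{u}) (k : ℕ) (U : C)
    (h : Subsingleton (CohSite.HU F k U)) : (abData J).Van F (k : ℤ) U := by
  have h' : Subsingleton (Abelian.Ext (CohCx.freeSheaf J U) F k) := h
  exact @Equiv.subsingleton _ _ (Abelian.Ext.homEquiv (X := CohCx.freeSheaf J U) (Y := F) (n := k)).symm h'

variable {J}

/-- the comparison map -/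
noncomputable def ηNat (K : DerivedCategory (Sheaf J AddCommGrpCat.{u})) (q : ℤ) :
    CohCx.HDUPresheaf K q ⟶ (CohCx.HD K q).obj where
  app U := AddCommGrpCat.ofHom ((abData J).η K q U.unop)
  naturality U V a := by
    ext x
    exact (abData J).η_res K q a.unop x

lemma W_ηNat (K : DerivedCategory (Sheaf J AddCommGrpCat.{u})) (q : ℤ) : J.W (ηNat K q) := by
  have h1 : Presheaf.IsLocallyInjective J (ηNat K q) := ⟨fun {U} x y h => by
    obtain ⟨S, hS, hS'⟩ := (abData J).η_locally_injective K q U.unop (x - y) (by
      rw [map_sub, sub_eq_zero]; exact h)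
    refine J.superset_covering (fun V g hg => ?_) hS
    have h0 := hS' V g hg
    rw [map_sub, sub_eq_zero] at h0
    exact h0⟩
  have h2 : Presheaf.IsLocallySurjective J (ηNat K q) := ⟨fun {U} h => by
    obtain ⟨S, hS, hS'⟩ := (abData J).η_locally_surjective K q U h
    exact J.superset_covering (fun V g hg => hS' V g hg) hS⟩
  exact J.W_of_isLocallyBijective _

/-- the sheafified hypercohomology presheaf is the cohomology sheaf -/
noncomputable def sheafifyIso (K : DerivedCategory (Sheaf J AddCommGrpCat.{u})) (q : ℤ) :
    (presheafToSheaf J AddCommGrpCat.{u}).obj (CohCx.HDUPresheaf K q) ≅ CohCx.HD K q :=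
  haveI : IsIso ((presheafToSheaf J AddCommGrpCat.{u}).map (ηNat K q)) :=
    (J.W_iff _).1 (W_ηNat K q)
  asIso ((presheafToSheaf J AddCommGrpCat.{u}).map (ηNat K q)) ≪≫
    (asIso (sheafificationAdjunction J AddCommGrpCat.{u}).counit).app (CohCx.HD K q)

end Groth.Agent.HDU
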