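import Groth.Agent.HDU.Basic
import Groth.Agent.CohDerRoofs.Trunc
import Mathlib.Algebra.Homology.DerivedCategory.FullyFaithful

/-!
K-injective complexes with vanishing negative cohomology: sections of the zeroth cohomology.
-/

set_option autoImplicit false
set_option linter.style.haveILetI false
set_option backward.isDefEq.respectTransparency false
set_option backward.isDefEq.respectTransparency.types false

universe w v u

open CategoryTheory Category Limits Opposite DerivedCategory HomologicalComplex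

namespace Groth.Agent.HDU

section Abelian

variable {A : Type u} [Category.{v} A] [Abelian A] [HasDerivedCategory.{w} A]

/-- maps on degree zero cohomology out of an object in degree zero come from the derived category -/
lemma exists_hom_of_H0 (P : A) (X : DerivedCategory A) [X.IsGE 0] [X.IsLE 0]
    (v : (DerivedCategory.homologyFunctor A 0).obj ((DerivedCategory.singleFunctor A 0).obj P) ⟶
      (DerivedCategory.homologyFunctor A 0).obj X) :
    ∃ y : (DerivedCategory.singleFunctor A 0).obj P ⟶ X,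
      (DerivedCategory.homologyFunctor A 0).map y = v := by
  obtain ⟨Y, ⟨e⟩⟩ := exists_iso_singleFunctor_obj_of_isGE_of_isLE X 0
  let α := singleFunctorCompHomologyFunctorIso A 0
  refine ⟨(DerivedCategory.singleFunctor A 0).map
    (α.inv.app P ≫ v ≫ (DerivedCategory.homologyFunctor A 0).map e.hom ≫ α.hom.app Y) ≫ e.inv, ?_⟩
  rw [Functor.map_comp]
  have h := NatIso.naturality_2 α
    (α.inv.app P ≫ v ≫ (DerivedCategory.homologyFunctor A 0).map e.hom ≫ α.hom.app Y)
  simp only [Functor.id_map, Category.assoc, Iso.hom_inv_id_app, Iso.hom_inv_id_app_assoc,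
    Functor.comp_map] at h
  erw [← h]
  simp [← Functor.map_comp]

variable (P : A) (G : CochainComplex A ℤ) [G.IsKInjective]

/-- maps into the zeroth cohomology lift to cycles -/
lemma exists_lift_cycles (hG : ∀ i : ℤ, i < 0 → IsZero (G.homology i)) (v : P ⟶ G.homology 0) :
    ∃ f : P ⟶ G.cycles 0, f ≫ G.homologyπ 0 = v := by
  have hGE : G.IsGE 0 := by
    rw [CochainComplex.isGE_iff]
    intro i hi
    rw [exactAt_iff_isZero_homology]
    exact hG i hi
  let T : CochainComplex A ℤ := G.truncLE 0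
  have hι : IsIso (homologyMap (G.ιTruncLE 0) 0) :=
    (quasiIsoAt_iff_isIso_homologyMap _ _).1 inferInstance
  have hT1 : (Q.obj T).IsLE 0 := by rw [isLE_Q_obj_iff]; infer_instance
  have hT2 : (Q.obj T).IsGE 0 := by
    rw [isGE_Q_obj_iff, CochainComplex.isGE_iff]
    intro i hi
    rw [exactAt_iff_isZero_homology]
    refine IsZero.of_iso (hG i hi) (@asIso _ _ _ _ (homologyMap (G.ιTruncLE 0) i) ?_)
    exact (quasiIsoAt_iff_isIso_homologyMap _ _).1
      (CochainComplex.quasiIsoAt_ιTruncLE _ _ _ (by lia))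
  let S := (CochainComplex.singleFunctor A 0).obj P
  let φ' : (DerivedCategory.homologyFunctor A 0).obj (Q.obj S) ⟶
      (DerivedCategory.homologyFunctor A 0).obj (Q.obj T) :=
    (homologyFunctorFactors A 0).hom.app S ≫ (singleObjHomologySelfIso _ _ _).hom ≫ v ≫
      inv (homologyMap (G.ιTruncLE 0) 0) ≫ (homologyFunctorFactors A 0).inv.app T
  obtain ⟨y, hy⟩ := exists_hom_of_H0 P (Q.obj T) φ'
  obtain ⟨φ, hφ⟩ := Groth.Agent.KInj.Q_map_surjective (K := S) (I := G) (y ≫ Q.map (G.ιTruncLE 0))
  have h1 : homologyMap φ 0 = (singleObjHomologySelfIso _ _ _).hom ≫ v := by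
    rw [← cancel_epi ((homologyFunctorFactors A 0).hom.app S),
      ← homologyFunctorFactors_hom_naturality, hφ, Functor.map_comp, Category.assoc,
      homologyFunctorFactors_hom_naturality]
    erw [hy]
    simp [φ']
  refine ⟨(singleObjCyclesSelfIso _ _ _).inv ≫ cyclesMap φ 0, ?_⟩
  rw [Category.assoc, ← homologyπ_naturality, h1]
  erw [singleObjCyclesSelfIso_inv_homologyπ_assoc]
  rw [Iso.inv_hom_id_assoc]

/-- a cycle of degree zero with trivial class is a boundary -/
lemma exists_boundary (hG : ∀ i : ℤ, i < 0 → IsZero (G.homology i)) (f : P ⟶ G.cycles 0)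
    (hf : f ≫ G.homologyπ 0 = 0) : ∃ g : P ⟶ G.X (-1), g ≫ G.d (-1) 0 = f ≫ G.iCycles 0 := by
  let S := (CochainComplex.singleFunctor A 0).obj P
  let φ : S ⟶ G := HomologicalComplex.mkHomFromSingle (f ≫ G.iCycles 0) (fun i _ => by simp)
  have h1 : homologyMap φ 0 = 0 := by
    rw [← cancel_epi (S.homologyπ 0), homologyπ_naturality, comp_zero]
    have : cyclesMap φ 0 = (singleObjCyclesSelfIso _ _ _).hom ≫ f := by
      rw [← cancel_mono (G.iCycles 0), cyclesMap_i, Category.assoc, mkHomFromSingle_f,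
        ← Category.assoc]
      simp [singleObjCyclesSelfIso_hom]
      rfl
    rw [this, Category.assoc, hf, comp_zero]
  have hS : (Q.obj S).IsLE 0 := by rw [isLE_Q_obj_iff]; infer_instance
  have hGE : (Q.obj G).IsGE 0 := by
    rw [isGE_Q_obj_iff, CochainComplex.isGE_iff]
    intro i hi
    rw [exactAt_iff_isZero_homology]
    exact hG i hi
  have h2 : (Q : _ ⥤ DerivedCategory A).map φ = 0 :=
    CohDerRoofs.eq_zero_of_homology_eq_zero 0 _ ((CohDerRoofs.Q_map_homology φ 0).2 h1)
  obtain ⟨H⟩ := Groth.Agent.KInj.nonempty_homotopy_of_Q_map_eq (f := φ) (g := 0)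
    (h2.trans (Functor.map_zero _ _ _).symm)
  refine ⟨(singleObjXSelf (ComplexShape.up ℤ) 0 P).inv ≫ H.hom 0 (-1), ?_⟩
  have h3 := H.comm 0
  rw [dNext_eq _ (show (ComplexShape.up ℤ).Rel 0 1 by simp),
    prevD_eq _ (show (ComplexShape.up ℤ).Rel (-1) 0 by simp)] at h3
  simp only [sub_f_apply, zero_f, sub_zero, add_zero, φ, mkHomFromSingle_f] at h3
  have h4 : S.d 0 1 = 0 := by simp [S, CochainComplex.singleFunctor, CochainComplex.singleFunctors]
  rw [h4, zero_comp, zero_add] at h3
  rw [Category.assoc, ← h3, Iso.inv_hom_id_assoc]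

end Abelian

section Site

variable {C : Type u} [SmallCategory C] {J : GrothendieckTopology C}
  (G : CochainComplex (Sheaf J AddCommGrpCat.{u}) ℤ) [G.IsKInjective]

/-- sections over every object surject onto sections of the zeroth cohomology sheaf -/
lemma sections_homologyπ_surjective (hG : ∀ i : ℤ, i < 0 → IsZero (G.homology i)) (U : C) :
    Function.Surjective ((G.homologyπ 0).hom.app (op U)) := fun h => by
  letI := HasDerivedCategory.standard (Sheaf J AddCommGrpCat.{u})
  obtain ⟨f, hf⟩ := exists_lift_cycles _ G hG ((SiteCoh.secEquiv U (G.homology 0)).symm h)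
  exact ⟨SiteCoh.secEquiv U _ f,
    (SiteCoh.secEquiv_comp f _).symm.trans (by rw [hf, AddEquiv.apply_symm_apply])⟩

lemma exists_of_homologyπ_eq_zero (hG : ∀ i : ℤ, i < 0 → IsZero (G.homology i)) (U : C)
    (z : (G.cycles 0).obj.obj (op U)) (hz : (G.homologyπ 0).hom.app (op U) z = 0) :
    ∃ t, (G.d (-1) 0).hom.app (op U) t = (G.iCycles 0).hom.app (op U) z := by
  letI := HasDerivedCategory.standard (Sheaf J AddCommGrpCat.{u})
  obtain ⟨g, hg⟩ := exists_boundary _ G hG ((SiteCoh.secEquiv U (G.cycles 0)).symm z)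
    ((SiteCoh.secEquiv U (G.homology 0)).injective (by
      rw [SiteCoh.secEquiv_comp, AddEquiv.apply_symm_apply, hz, map_zero]))
  refine ⟨SiteCoh.secEquiv U _ g, (SiteCoh.secEquiv_comp g _).symm.trans ?_⟩
  rw [hg, SiteCoh.secEquiv_comp, AddEquiv.apply_symm_apply]

/-- in negative degrees closed sections are boundaries -/
lemma exists_of_closed_of_neg (hG : ∀ i : ℤ, i < 0 → IsZero (G.homology i)) (i : ℤ) (hi : i < 0)
    (U : C) (s : (G.X i).obj.obj (op U)) (hs : (G.d i (i + 1)).hom.app (op U) s = 0) :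
    ∃ t, (G.d (i - 1) i).hom.app (op U) t = s := by
  letI := HasDerivedCategory.standard (Sheaf J AddCommGrpCat.{u})
  refine (cls_eq_zero_iff i U s hs).1 ?_
  have : (Q.obj G).IsGE 0 := by
    rw [isGE_Q_obj_iff, CochainComplex.isGE_iff]
    intro j hj
    rw [exactAt_iff_isZero_homology]
    exact hG j hj
  exact (TStructure.t.zero_of_isLE_of_isGE _ 0 (-i) (by lia)
    (inferInstanceAs (((DerivedCategory.singleFunctor (Sheaf J AddCommGrpCat.{u}) 0).obj _).IsLE 0))
    (TStructure.t.isGE_shift (Q.obj G) 0 i (-i) (by lia)))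

end Site

section

variable {C : Type u} [SmallCategory C] {J : GrothendieckTopology C}

lemma iCycles_app_injective (G : CochainComplex (Sheaf J AddCommGrpCat.{u}) ℤ) (i : ℤ) (U : C) :
    Function.Injective ((G.iCycles i).hom.app (op U)) := by
  have : Mono (G.iCycles i).hom := inferInstanceAs (Mono ((sheafToPresheaf J _).map (G.iCycles i)))
  exact (AddCommGrpCat.mono_iff_injective _).1 inferInstance

lemma d_iCycles_apply (G : CochainComplex (Sheaf J AddCommGrpCat.{u}) ℤ) (i j : ℤ) (U : C)
    (z : (G.cycles i).obj.obj (op U)) :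
    (G.d i j).hom.app (op U) ((G.iCycles i).hom.app (op U) z) = 0 :=
  ConcreteCategory.congr_hom
    (congr_arg (fun t : G.cycles i ⟶ G.X j => t.hom.app (op U)) (G.iCycles_d i j)) z

lemma exists_cycle_of_closed (G : CochainComplex (Sheaf J AddCommGrpCat.{u}) ℤ) (i : ℤ) (U : C)
    (s : (G.X i).obj.obj (op U)) (hs : (G.d i (i + 1)).hom.app (op U) s = 0) :
    ∃ z, (G.iCycles i).hom.app (op U) z = s := by
  let f := (SiteCoh.secEquiv U (G.X i)).symm s
  have hf : f ≫ G.d i (i + 1) = 0 := sec_closed i U s hs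
  refine ⟨SiteCoh.secEquiv U _ (G.liftCycles f (i + 1) (by simp) hf), ?_⟩
  rw [← SiteCoh.secEquiv_comp, liftCycles_i, AddEquiv.apply_symm_apply]

/-- a cohomology sheaf vanishes when closed sections are locally boundaries -/
lemma isZero_homology_of_locally (G : CochainComplex (Sheaf J AddCommGrpCat.{u}) ℤ) (i : ℤ)
    (h : ∀ (U : C) (s : (G.X i).obj.obj (op U)), (G.d i (i + 1)).hom.app (op U) s = 0 →
      ∃ S ∈ J U, ∀ (V : C) (g : V ⟶ U), S g →
        ∃ t, (G.d (i - 1) i).hom.app (op V) t = (G.X i).obj.map g.op s) :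
    IsZero (G.homology i) := by
  have : Sheaf.IsLocallySurjective (G.toCycles (i - 1) i) := ⟨fun {U} z => by
    obtain ⟨S, hS, hSV⟩ := h U _ (d_iCycles_apply G i (i + 1) U z)
    refine J.superset_covering (fun V g hg => ?_) hS
    obtain ⟨t, ht⟩ := hSV V g hg
    refine ⟨t, iCycles_app_injective G i V ?_⟩
    exact ((ConcreteCategory.congr_hom
      (congr_arg (fun m : G.X (i - 1) ⟶ G.X i => m.hom.app (op V)) (G.toCycles_i (i - 1) i)) t).trans ht).trans
        (NatTrans.naturality_apply (G.iCycles i).hom g.op z).symm⟩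
  have : Epi (G.toCycles (i - 1) i) := inferInstance
  rw [IsZero.iff_id_eq_zero, ← cancel_epi (G.homologyπ i), ← cancel_epi (G.toCycles (i - 1) i)]
  simp

/-- two quotients of a presheaf with the same kernels are isomorphic -/
lemma exists_iso_of_surjective {F P H : Cᵒᵖ ⥤ AddCommGrpCat.{u}} (π : F ⟶ H) (θ : F ⟶ P)
    (hπ : ∀ U, Function.Surjective (π.app U)) (hθ : ∀ U, Function.Surjective (θ.app U))
    (h : ∀ U z, π.app U z = 0 ↔ θ.app U z = 0) : Nonempty (H ≅ P) := by
  let e : ∀ U, H.obj U ≃+ P.obj U := fun U =>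
    (QuotientAddGroup.quotientKerEquivOfSurjective (π.app U).hom (hπ U)).symm.trans
      ((QuotientAddGroup.quotientAddEquivOfEq (AddSubgroup.ext fun z => h U z)).trans
        (QuotientAddGroup.quotientKerEquivOfSurjective (θ.app U).hom (hθ U)))
  have he : ∀ U z, e U (π.app U z) = θ.app U z := fun U z => by
    change (QuotientAddGroup.quotientKerEquivOfSurjective (θ.app U).hom (hθ U))
      ((QuotientAddGroup.quotientAddEquivOfEq (AddSubgroup.ext fun z => h U z))
        ((QuotientAddGroup.quotientKerEquivOfSurjective (π.app U).hom (hπ U)).symm (π.app U z))) = _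
    rw [show (QuotientAddGroup.quotientKerEquivOfSurjective (π.app U).hom (hπ U)).symm (π.app U z) =
      QuotientAddGroup.mk z from (AddEquiv.symm_apply_eq _).2 rfl]
    rfl
  refine ⟨NatIso.ofComponents (fun U => (e U).toAddCommGrpIso) fun {U V} a => ?_⟩
  ext y
  obtain ⟨z, rfl⟩ := hπ U y
  change e V (H.map a (π.app U z)) = P.map a (e U (π.app U z))
  rw [he, ← NatTrans.naturality_apply π a z, he, NatTrans.naturality_apply θ a z]

end

end Groth.Agent.HDU
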