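import Groth.Agent.HDU.Cover
import Groth.Prelude.Def_DCoh2
import Mathlib.CategoryTheory.Limits.ConcreteCategory.Basic

/-!
Cohomology sheaves of derived limits of systems with acyclic cohomology.
-/

set_option autoImplicit false
set_option linter.style.haveILetI false
set_option backward.isDefEq.respectTransparency false
set_option backward.isDefEq.respectTransparency.types false
set_option maxHeartbeats 1000000

universe u

open CategoryTheory Category Limits Opposite DerivedCategory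

namespace Groth.Agent.HDU

variable {C : Type u} [SmallCategory C] {J : GrothendieckTopology C}

lemma isRlimVia_of_isRlim {T : Type*} [Category T] [Preadditive T] [HasZeroObject T] [HasShift T ℤ]
    [∀ n : ℤ, (shiftFunctor T n).Additive] [Pretriangulated T]
    {K : ℕ → T} {t : ∀ n, K (n + 1) ⟶ K n} [HasProduct K] {L : T} (hL : DCoh.IsRlim K t L) :
    ∃ a : ∀ n, L ⟶ K n, CohCx.IsRlimVia K t L a := by
  obtain ⟨a, c, h⟩ := hL
  refine ⟨fun n => a ≫ Pi.π K n, c, ?_⟩
  rwa [show Pi.lift (fun n => a ≫ Pi.π K n) = a from Pi.hom_ext _ _ fun n => by simp]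

lemma isRlim_of_isRlimVia {T : Type*} [Category T] [Preadditive T] [HasZeroObject T] [HasShift T ℤ]
    [∀ n : ℤ, (shiftFunctor T n).Additive] [Pretriangulated T]
    {K : ℕ → T} {t : ∀ n, K (n + 1) ⟶ K n} [HasProduct K] {L : T} {a : ∀ n, L ⟶ K n}
    (hL : CohCx.IsRlimVia K t L a) : DCoh.IsRlim K t L := by
  obtain ⟨c, h⟩ := hL
  exact ⟨Pi.lift a, c, h⟩

section Limit

variable {F : ℕᵒᵖ ⥤ Sheaf J AddCommGrpCat.{u}}

lemma limit_sections_ext (U : C) {x y : (limit F).obj.obj (op U)}
    (h : ∀ n : ℕ, (limit.π F (op n)).hom.app (op U) x = (limit.π F (op n)).hom.app (op U) y) : x = y := by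
  let ev := sheafToPresheaf J AddCommGrpCat.{u} ⋙ (evaluation Cᵒᵖ AddCommGrpCat.{u}).obj (op U)
  refine Concrete.isLimit_ext _ (isLimitOfPreserves ev (limit.isLimit F)) x y fun ⟨n⟩ => ?_
  exact h n

lemma exists_limit_section (U : C) (s : ∀ n : ℕ, (F.obj (op n)).obj.obj (op U))
    (hs : ∀ n : ℕ, (F.map (homOfLE (Nat.le_succ n)).op).hom.app (op U) (s (n + 1)) = s n) :
    ∃ x : (limit F).obj.obj (op U), ∀ n : ℕ, (limit.π F (op n)).hom.app (op U) x = s n := by
  let f : ∀ n : ℕ, CohCx.freeSheaf J U ⟶ F.obj (op n) := fun n => (SiteCoh.secEquiv U _).symm (s n)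
  have hf : ∀ n, f (n + 1) ≫ F.map (homOfLE (Nat.le_succ n)).op = f n := fun n =>
    (SiteCoh.secEquiv U _).injective (by
      rw [SiteCoh.secEquiv_comp, AddEquiv.apply_symm_apply, AddEquiv.apply_symm_apply, hs])
  let c : Cone F :=
    { pt := CohCx.freeSheaf J U
      π := NatTrans.ofOpSequence (fun n => f n) fun n => (Category.id_comp _).trans (hf n).symm }
  refine ⟨SiteCoh.secEquiv U _ (limit.lift F c), fun n => ?_⟩
  rw [← SiteCoh.secEquiv_comp, limit.lift_π]
  exact (SiteCoh.secEquiv U _).apply_symm_apply (s n)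

end Limit

variable [HasDerivedCategory.{u} (Sheaf J AddCommGrpCat.{u})]
  {K : ℕ → DerivedCategory (Sheaf J AddCommGrpCat.{u})} {t : ∀ n, K (n + 1) ⟶ K n} [HasProduct K]
  {L : DerivedCategory (Sheaf J AddCommGrpCat.{u})} {a : ∀ n, L ⟶ K n}

variable (K t) in
/-- the system of cohomology sheaves -/
noncomputable abbrev HSeq (q : ℤ) : ℕᵒᵖ ⥤ Sheaf J AddCommGrpCat.{u} :=
  CohCx.opSequence (fun n => CohCx.HD (K n) q) (fun n => (DerivedCategory.homologyFunctor _ q).map (t n))

/-- the comparison map for abelian sheaves -/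
noncomputable def η' (M : DerivedCategory (Sheaf J AddCommGrpCat.{u})) (q : ℤ) (U : C) :
    CohCx.HDU M q U →+ (CohCx.HD M q).obj.obj (op U) :=
  (abData J).η M q U

lemma η'_res (M : DerivedCategory (Sheaf J AddCommGrpCat.{u})) (q : ℤ) {U V : C} (g : V ⟶ U)
    (x : CohCx.HDU M q U) :
    η' M q V (CohCx.HDUres M q g x) = (CohCx.HD M q).obj.map g.op (η' M q U x) :=
  (abData J).η_res M q g x

lemma η'_comp {M M' : DerivedCategory (Sheaf J AddCommGrpCat.{u})} (f : M ⟶ M') (q : ℤ) (U : C)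
    (x : CohCx.HDU M q U) :
    η' M' q U (x ≫ f⟦q⟧') =
      ((DerivedCategory.homologyFunctor _ q).map f).hom.app (op U) (η' M q U x) :=
  (abData J).η_comp f q U x

/-- the map to the limit of cohomology sheaves -/
noncomputable def toLimit (hL : CohCx.IsRlimVia K t L a) (q : ℤ) :
    CohCx.HD L q ⟶ limit (HSeq K t q) :=
  limit.lift _
    { pt := CohCx.HD L q
      π := NatTrans.ofOpSequence (F := (Functor.const ℕᵒᵖ).obj (CohCx.HD L q)) (G := HSeq K t q) (fun n => (DerivedCategory.homologyFunctor (Sheaf J AddCommGrpCat.{u}) q).map (a n)) fun n => by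
        refine (Category.id_comp _).trans ?_
        rw [← compat_of_isRlimVia hL n, Functor.map_comp]
        congr 1
        exact (Functor.ofOpSequence_map_homOfLE_succ (X := fun k => CohCx.HD (K k) q) (fun k => (DerivedCategory.homologyFunctor (Sheaf J AddCommGrpCat.{u}) q).map (t k)) n).symm }

lemma toLimit_π (hL : CohCx.IsRlimVia K t L a) (q : ℤ) (n : ℕ) (U : C)
    (γ : (CohCx.HD L q).obj.obj (op U)) :
    (limit.π (HSeq K t q) (op n)).hom.app (op U)
      ((toLimit hL q).hom.app (op U) γ) =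
      ((DerivedCategory.homologyFunctor _ q).map (a n)).hom.app (op U) γ := by
  have h : toLimit hL q ≫ limit.π (HSeq K t q) (op n) = (DerivedCategory.homologyFunctor _ q).map (a n) :=
    limit.lift_π _ (op n)
  exact ConcreteCategory.congr_hom (congr_arg
    (fun φ : CohCx.HD L q ⟶ CohCx.HD (K n) q => φ.hom.app (op U)) h) γ

variable {U : C} (hU : ∀ (n : ℕ) (q : ℤ), Function.Bijective (η' (K n) q U))
  (h2 : ∀ q : ℤ, CohCx.LimOneIsZero (fun n => (CohCx.HD (K n) q).obj.obj (op U))
      (fun n => (((DerivedCategory.homologyFunctor _ q).map (t n)).hom.app (op U)).hom))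

include hU h2 in
/-- classes killed by all projections vanish -/
theorem eq_zero_of_proj_zero (hL : CohCx.IsRlimVia K t L a) (q : ℤ) (x : CohCx.HDU L q U)
    (hx : ∀ n, x ≫ (a n)⟦q⟧' = 0) : x = 0 := by
  refine eq_zero_of_proj hL q (fun z => ?_) x hx
  obtain ⟨w, hw⟩ := h2 (q - 1) (fun n => η' (K n) (q - 1) U (z n))
  choose v hv using fun n => (hU n (q - 1)).2 (w n)
  refine ⟨v, fun n => (hU n (q - 1)).1 ?_⟩
  rw [map_sub, η'_comp, hv, hv]
  exact congrFun hw n

omit hU h2 in
/-- injectivity of the map to the limit -/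
theorem toLimit_injective (hL : CohCx.IsRlimVia K t L a) (q : ℤ) (B : Set C)
    (hB : ∀ U : C, ∃ (ι : Type u) (Y : ι → C) (f : ∀ i, Y i ⟶ U), Sieve.ofArrows Y f ∈ J U ∧ ∀ i, Y i ∈ B)
    (hη : ∀ U ∈ B, ∀ (n : ℕ) (q : ℤ), Function.Bijective (η' (K n) q U))
    (h2 : ∀ U ∈ B, ∀ q : ℤ, CohCx.LimOneIsZero (fun n => (CohCx.HD (K n) q).obj.obj (op U))
      (fun n => (((DerivedCategory.homologyFunctor _ q).map (t n)).hom.app (op U)).hom))
    (V : C) : Function.Injective ((toLimit hL q).hom.app (op V)) := by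
  refine (injective_iff_map_eq_zero _).mpr fun γ hγ => ?_
  obtain ⟨S, hS, hS'⟩ := (abData J).η_locally_surjective L q V γ
  obtain ⟨ι, Z, f, hf, hcov, hZ⟩ := exists_refinement_in B hB S hS
  refine (abData J).eq_zero_of_cover L q γ hcov fun W g hg => ?_
  obtain ⟨_, b, e, ⟨i⟩, hg'⟩ := hg
  obtain ⟨x, hx⟩ := hS' _ (f i) (hf i)
  change η' L q _ x = (CohCx.HD L q).obj.map (f i).op γ at hx
  have hx0 : x = 0 := eq_zero_of_proj_zero (hη _ (hZ i)) (h2 _ (hZ i)) hL q x fun n => by
    refine (hη _ (hZ i) n q).1 ?_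
    rw [η'_comp, map_zero, hx]
    refine (NatTrans.naturality_apply ((DerivedCategory.homologyFunctor _ q).map (a n)).hom (f i).op γ).trans ?_
    rw [← toLimit_π hL q n V γ, hγ, map_zero, map_zero]
  have h0 : (CohCx.HD L q).obj.map (f i).op γ = 0 := hx.symm.trans (by rw [hx0, map_zero])
  change (CohCx.HD L q).obj.map g.op γ = 0
  rw [← hg', op_comp, Functor.map_comp, ConcreteCategory.comp_apply, h0, map_zero]

include hU in
/-- surjectivity of the map to the limit over good objects -/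
theorem toLimit_surjective (hL : CohCx.IsRlimVia K t L a) (q : ℤ) :
    Function.Surjective ((toLimit hL q).hom.app (op U)) := by
  intro s
  let F := HSeq K t q
  choose x hx using fun n => (hU n q).2 ((limit.π F (op n)).hom.app (op U) s)
  have hc : ∀ n, x (n + 1) ≫ (t n)⟦q⟧' = x n := fun n => (hU n q).1 (by
    rw [η'_comp, hx, hx]
    refine Eq.trans ?_ (ConcreteCategory.congr_hom
      (congr_arg (fun φ : limit F ⟶ F.obj (op n) => φ.hom.app (op U))
        (limit.w F (homOfLE (Nat.le_succ n)).op)) s)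
    refine (ConcreteCategory.congr_hom (congr_arg (fun φ : F.obj (op (n + 1)) ⟶ F.obj (op n) =>
      φ.hom.app (op U)) (Functor.ofOpSequence_map_homOfLE_succ _ n)) _).symm)
  obtain ⟨y, hy⟩ := exists_lift_rlim hL q x hc
  refine ⟨η' L q U y, limit_sections_ext U fun n => ?_⟩
  rw [← hx n, ← hy n, toLimit_π, η'_comp]

omit hU h2 in
/-- cohomology sheaves of derived limits -/
theorem isIso_toLimit (hL : CohCx.IsRlimVia K t L a) (q : ℤ) (B : Set C)
    (hB : ∀ U : C, ∃ (ι : Type u) (Y : ι → C) (f : ∀ i, Y i ⟶ U), Sieve.ofArrows Y f ∈ J U ∧ ∀ i, Y i ∈ B)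
    (hη : ∀ U ∈ B, ∀ (n : ℕ) (q : ℤ), Function.Bijective (η' (K n) q U))
    (h2 : ∀ U ∈ B, ∀ q : ℤ, CohCx.LimOneIsZero (fun n => (CohCx.HD (K n) q).obj.obj (op U))
      (fun n => (((DerivedCategory.homologyFunctor _ q).map (t n)).hom.app (op U)).hom)) :
    IsIso (toLimit hL q) := by
  have : Mono (toLimit hL q) := by
    refine (sheafToPresheaf J AddCommGrpCat.{u}).mono_of_mono_map ?_
    refine @NatTrans.mono_of_mono_app _ _ _ _ _ _ _ fun V => ?_
    exact (AddCommGrpCat.mono_iff_injective _).2 (toLimit_injective hL q B hB hη h2 V.unop)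
  have : Sheaf.IsLocallySurjective (toLimit hL q) := ⟨fun {V} s => by
    obtain ⟨ι, Z, f, hcov, hY⟩ := hB V
    refine J.superset_covering ?_ hcov
    rintro W g ⟨_, b, e, ⟨i⟩, rfl⟩
    obtain ⟨y, hy⟩ := toLimit_surjective (hη (Z i) (hY i)) hL q
      ((limit (HSeq K t q)).obj.map (f i).op s)
    refine ⟨(CohCx.HD L q).obj.map b.op y, ?_⟩
    refine (NatTrans.naturality_apply (toLimit hL q).hom b.op y).trans ?_
    rw [hy, op_comp, Functor.map_comp, ConcreteCategory.comp_apply]⟩
  have : Epi (toLimit hL q) := inferInstance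
  exact isIso_of_mono_of_epi _

end Groth.Agent.HDU
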