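import Groth.Agent.HDU.Top
import Groth.Agent.KInj.Existence
import Groth.Agent.WayOut.Basic
import Mathlib.CategoryTheory.Sites.EpiMono
import Mathlib.Algebra.Homology.ShortComplex.ExactFunctor

/-!
Hypercohomology presheaves and cohomology sheaves, for a category with a faithful exact functor to
abelian sheaves whose sections are corepresented.
-/

set_option autoImplicit false
set_option linter.style.haveILetI false
set_option backward.isDefEq.respectTransparency false
set_option backward.isDefEq.respectTransparency.types false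

universe w v u u'

open CategoryTheory Category Limits Opposite DerivedCategory HomologicalComplex CochainComplex.HomComplex

namespace Groth.Agent.HDU

/-- an exact functor to abelian sheaves with corepresented sections -/
structure SecData (A : Type u') [Category.{v} A] [Abelian A] {C : Type u} [SmallCategory C]
    (J : GrothendieckTopology C) where
  /-- the underlying sheaf -/
  Φ : A ⥤ Sheaf J AddCommGrpCat.{u}
  [additive : Φ.Additive]
  [lim : PreservesFiniteLimits Φ]
  [colim : PreservesFiniteColimits Φ]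
  [faithful : Φ.Faithful]
  /-- the corepresenting objects -/
  P : C → A
  /-- functoriality -/
  Pmap : ∀ {U V : C}, (V ⟶ U) → (P V ⟶ P U)
  /-- maps out of `P U` are sections over `U` -/
  sec : ∀ (U : C) (F : A), (P U ⟶ F) ≃+ (Φ.obj F).obj.obj (op U)
  sec_comp : ∀ {U : C} {F G : A} (φ : P U ⟶ F) (f : F ⟶ G),
    sec U G (φ ≫ f) = (Φ.map f).hom.app (op U) (sec U F φ)
  sec_map : ∀ {U V : C} (a : V ⟶ U) {F : A} (φ : P U ⟶ F),
    sec V F (Pmap a ≫ φ) = (Φ.obj F).obj.map a.op (sec U F φ)

attribute [instance] SecData.additive SecData.lim SecData.colim SecData.faithful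

variable {A : Type u'} [Category.{v} A] [Abelian A] {C : Type u} [SmallCategory C]
  {J : GrothendieckTopology C} (D : SecData A J) [HasDerivedCategory.{w} A]

namespace SecData

/-- `H^q(U, M)` -/
noncomputable abbrev HG (M : DerivedCategory A) (q : ℤ) (U : C) : Type w :=
  (DerivedCategory.singleFunctor A 0).obj (D.P U) ⟶ (shiftFunctor (DerivedCategory A) q).obj M

/-- restriction -/
noncomputable abbrev res (M : DerivedCategory A) (q : ℤ) {U V : C} (a : V ⟶ U) : D.HG M q U →+ D.HG M q V :=
  Preadditive.leftComp _ ((DerivedCategory.singleFunctor A 0).map (D.Pmap a))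

/-- the underlying sheaf of a cohomology object -/
noncomputable abbrev HS (M : DerivedCategory A) (q : ℤ) : Sheaf J AddCommGrpCat.{u} :=
  D.Φ.obj ((DerivedCategory.homologyFunctor A q).obj M)

end SecData

lemma singleHomologyIso_hom_naturality {P P' : A} (g : P ⟶ P') :
    (DerivedCategory.homologyFunctor A 0).map ((DerivedCategory.singleFunctor A 0).map g) ≫
      (WayOut.singleHomologyIso P' 0).hom = (WayOut.singleHomologyIso P 0).hom ≫ g := by
  simp only [WayOut.singleHomologyIso, Iso.trans_hom, Iso.app_hom]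
  erw [homologyFunctorFactors_hom_naturality_assoc]
  erw [Category.assoc]
  congr 1
  exact singleObjHomologySelfIso_hom_naturality _ _ _

/-- the map in zeroth cohomology attached to a morphism out of an object in degree zero -/
noncomputable def toH0 {P : A} {M : DerivedCategory A}
    (x : (DerivedCategory.singleFunctor A 0).obj P ⟶ M) :
    P ⟶ (DerivedCategory.homologyFunctor A 0).obj M :=
  (WayOut.singleHomologyIso P 0).inv ≫ (DerivedCategory.homologyFunctor A 0).map x

lemma toH0_add {P : A} {M : DerivedCategory A}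
    (x y : (DerivedCategory.singleFunctor A 0).obj P ⟶ M) : toH0 (x + y) = toH0 x + toH0 y := by
  simp [toH0]

lemma toH0_precomp {P P' : A} (g : P' ⟶ P) {M : DerivedCategory A}
    (x : (DerivedCategory.singleFunctor A 0).obj P ⟶ M) :
    toH0 ((DerivedCategory.singleFunctor A 0).map g ≫ x) = g ≫ toH0 x := by
  rw [toH0, toH0, Functor.map_comp, ← Category.assoc, ← Category.assoc]
  congr 1
  rw [Iso.eq_comp_inv, Category.assoc, singleHomologyIso_hom_naturality, Iso.inv_hom_id_assoc]

lemma toH0_comp {P : A} {M M' : DerivedCategory A}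
    (x : (DerivedCategory.singleFunctor A 0).obj P ⟶ M) (f : M ⟶ M') :
    toH0 (x ≫ f) = toH0 x ≫ (DerivedCategory.homologyFunctor A 0).map f := by
  simp [toH0]

lemma toH0_mkHom {P : A} {I : CochainComplex A ℤ} (f : P ⟶ I.cycles 0)
    (φ : (CochainComplex.singleFunctor A 0).obj P ⟶ I)
    (hφ : (singleObjXSelf (ComplexShape.up ℤ) 0 P).inv ≫ φ.f 0 = f ≫ I.iCycles 0) :
    toH0 ((Q : _ ⥤ DerivedCategory A).map φ) =
      f ≫ I.homologyπ 0 ≫ (homologyFunctorFactors A 0).inv.app I := by
  rw [toH0]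
  simp only [WayOut.singleHomologyIso, Iso.trans_inv, Iso.app_inv, Category.assoc]
  rw [← cancel_mono ((homologyFunctorFactors A 0).hom.app I)]
  simp only [Category.assoc]
  erw [homologyFunctorFactors_hom_naturality, Iso.inv_hom_id_app_assoc, Iso.inv_hom_id_app]
  erw [Category.comp_id]
  have hc : (singleObjCyclesSelfIso (ComplexShape.up ℤ) 0 P).inv ≫ cyclesMap φ 0 = f := by
    rw [← cancel_mono (I.iCycles 0), Category.assoc, cyclesMap_i, ← Category.assoc,
      ]
    erw [singleObjCyclesSelfIso_inv_iCycles]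
    exact hφ
  rw [← hc, Category.assoc, ← homologyπ_naturality]
  erw [singleObjCyclesSelfIso_inv_homologyπ_assoc]

namespace SecData

/-- from `H^q(U, M)` to sections of the cohomology sheaf -/
noncomputable def η (M : DerivedCategory A) (q : ℤ) (U : C) : D.HG M q U →+ (D.HS M q).obj.obj (op U) :=
  AddMonoidHom.mk' (fun x => D.sec U _ (toH0 x ≫
      (((DerivedCategory.homologyFunctor A 0).shiftIso q 0 q (by omega)).hom.app M)))
    fun x y => by rw [toH0_add, Preadditive.add_comp, map_add]

lemma η_res (M : DerivedCategory A) (q : ℤ) {U V : C} (a : V ⟶ U) (x : D.HG M q U) :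
    D.η M q V (D.res M q a x) = (D.HS M q).obj.map a.op (D.η M q U x) := by
  refine Eq.trans ?_ (D.sec_map a _)
  exact congrArg (D.sec V _) ((congrArg (· ≫ _) (toH0_precomp (D.Pmap a) x)).trans (Category.assoc _ _ _))

lemma η_comp {M M' : DerivedCategory A} (f : M ⟶ M') (q : ℤ) (U : C) (x : D.HG M q U) :
    D.η M' q U (x ≫ (shiftFunctor (DerivedCategory A) q).map f) =
      (D.Φ.map ((DerivedCategory.homologyFunctor A q).map f)).hom.app (op U) (D.η M q U x) := by
  refine Eq.trans ?_ (D.sec_comp _ _)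
  refine congrArg (D.sec U _) ?_
  rw [toH0_comp, Category.assoc, Category.assoc]
  congr 1
  exact (DerivedCategory.homologyFunctor A 0).shiftIso_hom_naturality q 0 q (by omega) f

variable [IsGrothendieckAbelian.{v} A]

lemma locally_surjective_zero (M : DerivedCategory A) (U : C)
    (h : (D.Φ.obj ((DerivedCategory.homologyFunctor A 0).obj M)).obj.obj (op U)) :
    ∃ S ∈ J U, ∀ (V : C) (a : V ⟶ U), S a →
      ∃ x : (DerivedCategory.singleFunctor A 0).obj (D.P V) ⟶ M,
        D.sec V _ (toH0 x) = (D.Φ.obj _).obj.map a.op h := by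
  obtain ⟨I, hI, ⟨e⟩⟩ := exists_kInj_rep M
  let g : I.cycles 0 ⟶ (DerivedCategory.homologyFunctor A 0).obj M :=
    I.homologyπ 0 ≫ (homologyFunctorFactors A 0).inv.app I ≫
      (DerivedCategory.homologyFunctor A 0).map e.hom
  have hepi : Epi (D.Φ.map g) := inferInstance
  have := (Sheaf.isLocallySurjective_iff_epi' AddCommGrpCat.{u} (D.Φ.map g)).2 hepi
  refine ⟨_, Presheaf.imageSieve_mem J (D.Φ.map g).hom h, fun V a ha => ?_⟩
  obtain ⟨z, hz⟩ := ha
  let f := (D.sec V (I.cycles 0)).symm z
  let φ : (CochainComplex.singleFunctor A 0).obj (D.P V) ⟶ I :=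
    HomologicalComplex.mkHomFromSingle (f ≫ I.iCycles 0) (fun i _ => by simp)
  refine ⟨Q.map φ ≫ e.hom, Eq.trans ?_ hz⟩
  refine Eq.trans ?_ ((D.sec_comp f g).trans (by rw [AddEquiv.apply_symm_apply]))
  refine congrArg (D.sec V _) ?_
  rw [toH0_comp, toH0_mkHom f φ]
  · simp [g]
  · simp only [φ, mkHomFromSingle_f, Iso.inv_hom_id_assoc]

lemma locally_injective_zero (M : DerivedCategory A) (U : C)
    (x : (DerivedCategory.singleFunctor A 0).obj (D.P U) ⟶ M) (hx : D.sec U _ (toH0 x) = 0) :
    ∃ S ∈ J U, ∀ (V : C) (a : V ⟶ U), S a →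
      (DerivedCategory.singleFunctor A 0).map (D.Pmap a) ≫ x = 0 := by
  obtain ⟨I, hI, ⟨e⟩⟩ := exists_kInj_rep M
  obtain ⟨φ, hφ⟩ := KInj.Q_map_surjective (K := (CochainComplex.singleFunctor A 0).obj (D.P U))
    (I := I) (x ≫ e.inv)
  let f₀ := (singleObjXSelf (ComplexShape.up ℤ) 0 (D.P U)).inv ≫ φ.f 0
  have hf₀ : f₀ ≫ I.d 0 1 = 0 := by
    simp [f₀, φ.comm 0 1, CochainComplex.singleFunctor, CochainComplex.singleFunctors]
  let f := I.liftCycles f₀ 1 (by simp) hf₀
  have hf : f ≫ I.homologyπ 0 = 0 := by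
    rw [(D.sec U _).map_eq_zero_iff] at hx
    have h1 : toH0 ((Q : _ ⥤ DerivedCategory A).map φ) = 0 := by
      rw [hφ, toH0_comp, hx, zero_comp]
    rw [toH0_mkHom f φ (by rw [liftCycles_i])] at h1
    rw [← cancel_mono ((homologyFunctorFactors A 0).inv.app I), Category.assoc, h1, zero_comp]
  let T : ShortComplex A := ShortComplex.mk (I.toCycles (-1) 0) (I.homologyπ 0) (by simp)
  have hT : T.Exact := ShortComplex.exact_of_g_is_cokernel _ (I.homologyIsCokernel (-1) 0 (by simp))
  have hT' := hT.map D.Φ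
  let S' := T.map D.Φ
  let z := D.sec U (I.cycles 0) f
  have hz : (D.Φ.map (I.homologyπ 0)).hom.app (op U) z = 0 := by
    rw [← D.sec_comp, hf, map_zero]
  have hκ : Epi (kernel.lift (D.Φ.map (I.homologyπ 0)) (D.Φ.map (I.toCycles (-1) 0)) S'.zero) :=
    (S'.exact_iff_epi_kernel_lift).1 hT'
  have hls := (Sheaf.isLocallySurjective_iff_epi' AddCommGrpCat.{u}
    (kernel.lift (D.Φ.map (I.homologyπ 0)) (D.Φ.map (I.toCycles (-1) 0)) S'.zero)).2 hκ
  let k : CohCx.freeSheaf J U ⟶ kernel (D.Φ.map (I.homologyπ 0)) :=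
    kernel.lift _ ((SiteCoh.secEquiv U _).symm z) ((SiteCoh.secEquiv U _).injective
      (by rw [SiteCoh.secEquiv_comp, AddEquiv.apply_symm_apply, map_zero]; exact hz))
  let zk := SiteCoh.secEquiv U _ k
  refine ⟨_, Presheaf.imageSieve_mem J
    (kernel.lift (D.Φ.map (I.homologyπ 0)) (D.Φ.map (I.toCycles (-1) 0)) S'.zero).hom zk,
    fun V a ha => ?_⟩
  obtain ⟨t, ht⟩ := ha
  have h2 : (D.Φ.map (I.toCycles (-1) 0)).hom.app (op V) t = (D.Φ.obj _).obj.map a.op z := by
    have h3 := congrArg ((kernel.ι (D.Φ.map (I.homologyπ 0))).hom.app (op V)).hom ht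
    refine Eq.trans ?_ (h3.trans ?_)
    · exact (ConcreteCategory.congr_hom (congr_arg
        (fun m : D.Φ.obj (I.X (-1)) ⟶ D.Φ.obj (I.cycles 0) => m.hom.app (op V))
        (kernel.lift_ι (D.Φ.map (I.homologyπ 0)) (D.Φ.map (I.toCycles (-1) 0)) S'.zero)) t).symm
    · refine (NatTrans.naturality_apply (kernel.ι (D.Φ.map (I.homologyπ 0))).hom a.op zk).trans
        (congrArg ((D.Φ.obj _).obj.map a.op).hom ?_)
      rw [← SiteCoh.secEquiv_comp, kernel.lift_ι, AddEquiv.apply_symm_apply]
  let g := (D.sec V (I.X (-1))).symm t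
  have hg : g ≫ I.toCycles (-1) 0 = D.Pmap a ≫ f :=
    (D.sec V _).injective (by rw [D.sec_comp, AddEquiv.apply_symm_apply, D.sec_map, h2])
  have h4 : g ≫ I.d (-1) 0 = D.Pmap a ≫ f₀ := by
    rw [← I.toCycles_i (-1) 0, ← Category.assoc, hg, Category.assoc, liftCycles_i]
  let φ' := (CochainComplex.singleFunctor A 0).map (D.Pmap a) ≫ φ
  have h5 : δ (-1) 0 (Cochain.fromSingleMk g (show (0 : ℤ) + -1 = -1 by omega)) = Cochain.ofHom φ' := by
    rw [Cochain.δ_fromSingleMk _ _ _ 0 (add_zero 0), h4]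
    apply (Cochain.fromSingleEquiv (add_zero 0)).injective
    simp [Cochain.fromSingleEquiv, φ', f₀, CochainComplex.singleFunctor,
      CochainComplex.singleFunctors, HomologicalComplex.single_map_f_self]
  obtain ⟨H⟩ := KInj.nonempty_homotopy_of_delta_eq _ h5
  have h6 : (Q : _ ⥤ DerivedCategory A).map φ' = 0 :=
    (KInj.Q_map_eq_of_homotopy ((Homotopy.ofEq (sub_zero φ')).trans H)).trans (Functor.map_zero _ _ _)
  have h7 : x = (Q : _ ⥤ DerivedCategory A).map φ ≫ e.hom := by
    rw [hφ, Category.assoc, e.inv_hom_id, Category.comp_id]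
  rw [h7]
  change (Q : _ ⥤ DerivedCategory A).map ((CochainComplex.singleFunctor A 0).map (D.Pmap a)) ≫ _ = 0
  rw [← Category.assoc, ← Functor.map_comp, h6, zero_comp]

/-- `η` is locally surjective -/
theorem η_locally_surjective (M : DerivedCategory A) (q : ℤ) (U : C) (h : (D.HS M q).obj.obj (op U)) :
    ∃ S ∈ J U, ∀ (V : C) (a : V ⟶ U), S a →
      ∃ x : D.HG M q V, D.η M q V x = (D.HS M q).obj.map a.op h := by
  let s := ((DerivedCategory.homologyFunctor A 0).shiftIso q 0 q (by omega)).app M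
  let f := (D.sec U _).symm h
  obtain ⟨S, hS, h'⟩ := D.locally_surjective_zero ((shiftFunctor (DerivedCategory A) q).obj M) U
    (D.sec U _ (f ≫ s.inv))
  refine ⟨S, hS, fun V a ha => ?_⟩
  obtain ⟨x, hx⟩ := h' V a ha
  refine ⟨x, ?_⟩
  rw [← D.sec_map, (D.sec V _).apply_eq_iff_eq] at hx
  change D.sec V _ (toH0 x ≫ s.hom) = _
  erw [hx, Category.assoc, Category.assoc, s.inv_hom_id, Category.comp_id, D.sec_map]
  exact congrArg ((D.HS M q).obj.map a.op).hom ((D.sec U _).apply_symm_apply h)

/-- `η` is locally injective -/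
theorem η_locally_injective (M : DerivedCategory A) (q : ℤ) (U : C) (x : D.HG M q U)
    (hx : D.η M q U x = 0) :
    ∃ S ∈ J U, ∀ (V : C) (a : V ⟶ U), S a → D.res M q a x = 0 := by
  refine D.locally_injective_zero ((shiftFunctor (DerivedCategory A) q).obj M) U x ?_
  rw [(D.sec U _).map_eq_zero_iff]
  have := (D.sec U _).map_eq_zero_iff.1 hx
  rw [← cancel_mono (((DerivedCategory.homologyFunctor A 0).shiftIso q 0 q (by omega)).hom.app M),
    zero_comp]
  exact this

end SecData

end Groth.Agent.HDU
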