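import Groth.Agent.HDU.SingleLimit
import Groth.Agent.RPushSite.Limits

/-!
Derived limits of systems of acyclic objects, for categories with corepresented sections.
-/

set_option autoImplicit false
set_option linter.style.haveILetI false
set_option linter.unusedSectionVars false
set_option backward.isDefEq.respectTransparency false
set_option backward.isDefEq.respectTransparency.types false
set_option maxHeartbeats 1000000

universe w v u u'

open CategoryTheory Category Limits Opposite DerivedCategory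

namespace Groth.Agent.HDU

variable {A : Type u'} [Category.{v} A] [Abelian A] {C : Type u} [SmallCategory C]
  {J : GrothendieckTopology C} (D : SecData A J) [HasDerivedCategory.{w} A]

local notation "S" => DerivedCategory.singleFunctor A 0
/-- `M ⟶ M⟦0⟧` -/
noncomputable abbrev ζ (M : DerivedCategory A) : M ⟶ M⟦(0 : ℤ)⟧ :=
  (shiftFunctorZero (DerivedCategory A) ℤ).inv.app M

/-- maps between objects in degree zero -/
lemma exists_map_single {P F : A} (x : (S).obj P ⟶ ((S).obj F)⟦(0 : ℤ)⟧) :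
    ∃ g : P ⟶ F, (S).map g ≫ ζ ((S).obj F) = x :=
  ⟨(S).preimage (x ≫ (shiftFunctorZero (DerivedCategory A) ℤ).hom.app ((S).obj F)), by simp⟩

lemma map_single_comp {P F G : A} (g : P ⟶ F) (f : F ⟶ G) :
    ((S).map g ≫ ζ ((S).obj F)) ≫ ((S).map f)⟦(0 : ℤ)⟧' = (S).map (g ≫ f) ≫ ζ ((S).obj G) := by
  have h := (shiftFunctorZero (DerivedCategory A) ℤ).inv.naturality ((S).map f)
  simp only [Functor.id_map] at h
  rw [Category.assoc, ← h, Functor.map_comp, Category.assoc]

lemma map_single_injective {P F : A} {g g' : P ⟶ F}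
    (h : (S).map g ≫ ζ ((S).obj F) = (S).map g' ≫ ζ ((S).obj F)) : g = g' :=
  (S).map_injective ((cancel_mono _).1 h)

lemma subsingleton_hg_single (F : A) (U : C) (h : ∀ j : ℤ, 0 < j → D.Van F j U) (j : ℤ) (hj : j ≠ 0) :
    Subsingleton (D.HG ((S).obj F) j U) := by
  rcases lt_or_gt_of_ne hj with hj | hj
  · refine subsingleton_of_forall_eq 0 fun f => ?_
    haveI : (((S).obj F)⟦j⟧).IsGE (-j) := TStructure.t.isGE_shift _ 0 j (-j) (by omega)
    exact TStructure.t.zero f 0 (-j) (by omega)
  · exact h j hj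

lemma subsingleton_HS_single (F : A) (W : C) (j : ℤ) (hj : j ≠ 0) :
    Subsingleton ((D.HS ((S).obj F) j).obj.obj (op W)) := by
  have hz : IsZero (D.HS ((S).obj F) j) := D.Φ.map_isZero (by
    rcases lt_or_gt_of_ne hj with h | h
    · exact isZero_of_isGE _ 0 j h
    · exact isZero_of_isLE _ 0 j h)
  exact @Equiv.subsingleton _ _ (SiteCoh.secEquiv W _).symm.toEquiv ⟨fun f g => hz.eq_of_tgt f g⟩

variable [IsGrothendieckAbelian.{v} A]
  (F : ℕ → A) (t : ∀ n, F (n + 1) ⟶ F n) [HasLimit (CohCx.opSequence F t)]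
  [HasProduct fun n : ℕ => (DerivedCategory.singleFunctor A 0).obj (F n)]
  (B : Set C) (hB : ∀ U : C, ∃ (ι : Type u) (Y : ι → C) (f : ∀ i, Y i ⟶ U), Sieve.ofArrows Y f ∈ J U ∧ ∀ i, Y i ∈ B)
  (h1 : ∀ U ∈ B, ∀ (n : ℕ) (j : ℤ), 0 < j → D.Van (F n) j U)
  (h2 : ∀ U ∈ B, CohCx.LimOneIsZero (fun n => D.P U ⟶ F n) (fun n => Preadditive.rightComp _ (t n)))

include h1 h2 in
lemma limOne_hg {W : C} (hW : W ∈ B) (q : ℤ) (z : ∀ n, D.HG ((S).obj (F n)) q W) :
    ∃ w : ∀ n, D.HG ((S).obj (F n)) q W, ∀ n, w n - w (n + 1) ≫ ((S).map (t n))⟦q⟧' = z n := by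
  by_cases hq : q = 0
  · subst hq
    choose g hg using fun n => exists_map_single (z n)
    obtain ⟨w, hw⟩ := h2 W hW g
    refine ⟨fun n => (S).map (w n) ≫ ζ ((S).obj (F n)), fun n => ?_⟩
    rw [map_single_comp, ← Preadditive.sub_comp, ← Functor.map_sub, ← hg n]
    exact congrArg (fun a => (S).map a ≫ ζ ((S).obj (F n))) (congrFun hw n)
  · exact ⟨0, fun n => (subsingleton_hg_single D (F n) W (h1 W hW n) q hq).elim _ _⟩

include hB h1 h2 in
/-- the limit of acyclic objects without `lim¹` is the derived limit -/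
theorem isRlim_single_limit_gen :
    DCoh.IsRlim (fun n => (S).obj (F n)) (fun n => (S).map (t n))
      ((S).obj (limit (CohCx.opSequence F t))) := by
  let T := CohCx.opSequence F t
  obtain ⟨L, a, hL⟩ := exists_rlim (fun n => (S).obj (F n)) (fun n => (S).map (t n))
  let π : ∀ n, limit T ⟶ F n := fun n => limit.π T (op n)
  have hπ : ∀ n, π (n + 1) ≫ t n = π n := fun n => by
    have h := limit.w T (homOfLE (Nat.le_succ n)).op
    rwa [show T.map (homOfLE (Nat.le_succ n)).op = t n from Functor.ofOpSequence_map_homOfLE_succ t n] at h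
  obtain ⟨φ, hφ⟩ := exists_map_to_rlim hL (fun n => (S).map (π n))
    fun n => by rw [← Functor.map_comp, hπ]
  have hx0 : ∀ (V : C) (x : D.HG ((S).obj (limit T)) 0 V), x ≫ φ⟦(0 : ℤ)⟧' = 0 → x = 0 := by
    intro V x hx
    obtain ⟨g, rfl⟩ := exists_map_single x
    have hgπ : ∀ n, g ≫ π n = 0 := fun n => map_single_injective (by
      rw [← map_single_comp, ← hφ n, Functor.map_comp, ← Category.assoc, hx, zero_comp, Functor.map_zero,
        zero_comp])
    have hg : g = 0 := limit.hom_ext fun ⟨n⟩ => (hgπ n).trans zero_comp.symm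
    rw [hg, Functor.map_zero, zero_comp]
  have hsurj : ∀ W ∈ B, ∀ (j : ℤ) (y : D.HG L j W),
      ∃ x : D.HG ((S).obj (limit T)) j W, x ≫ φ⟦j⟧' = y := by
    intro W hW j y
    by_cases hj : j = 0
    · subst hj
      choose g hg using fun n => exists_map_single (y ≫ (a n)⟦(0 : ℤ)⟧')
      have hc : ∀ n, g (n + 1) ≫ t n = g n := fun n => map_single_injective (by
        rw [← map_single_comp, hg, hg, Category.assoc, ← Functor.map_comp, compat_of_isRlimVia hL])
      let c : Cone T :=
        { pt := D.P W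
          π := NatTrans.ofOpSequence (fun n => g n) fun n => (Category.id_comp _).trans
            ((hc n).symm.trans (congrArg (g (n + 1) ≫ ·) (Functor.ofOpSequence_map_homOfLE_succ t n).symm)) }
      refine ⟨(S).map (limit.lift T c) ≫ ζ ((S).obj (limit T)), sub_eq_zero.1 ?_⟩
      refine eq_zero_of_proj hL 0 (limOne_hg D F t B h1 h2 hW _) _ fun n => ?_
      rw [Preadditive.sub_comp, ← hg n, Category.assoc, ← Functor.map_comp, hφ n, map_single_comp,
        show limit.lift T c ≫ π n = g n from limit.lift_π c (op n), sub_self]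
    · refine ⟨0, zero_comp.trans (eq_zero_of_proj hL j (limOne_hg D F t B h1 h2 hW _) y fun n => ?_).symm⟩
      exact (subsingleton_hg_single D (F n) W (h1 W hW n) j hj).elim _ _
  haveI : IsIso φ := by
    rw [DerivedCategory.isIso_iff]
    refine fun j => D.isIso_homology_of_locally_bijective φ j (fun V x hx => ?_) fun V y => ?_
    · refine ⟨⊤, J.top_mem V, fun W g _ => ?_⟩
      by_cases hj : j = 0
      · subst hj
        rw [hx0 V x hx, map_zero, map_zero]
      · exact (subsingleton_HS_single D (limit T) W j hj).elim _ _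
    · obtain ⟨ι, Pt, f, hcov, hP⟩ := hB V
      refine ⟨_, hcov, ?_⟩
      rintro W g ⟨Z, c, e, ⟨i⟩, rfl⟩
      obtain ⟨x, hx⟩ := hsurj (Pt i) (hP i) j (D.res L j (f i) y)
      refine ⟨D.η _ j W (D.res _ j c x), (D.η_comp φ j W _).symm.trans ?_⟩
      rw [D.η_res L j (c ≫ f i), op_comp, Functor.map_comp, ConcreteCategory.comp_apply, ← D.η_res,
        ← D.η_res, ← hx]
      exact congrArg (D.η L j W) (Category.assoc _ _ _)
  exact isRlim_of_isRlimVia (isRlimVia_of_iso hL φ _ hφ)

end Groth.Agent.HDU
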