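import Groth.Agent.HDU.TowerLimit
import Groth.Agent.HDU.ModData

/-!
Sheaves of modules as derived limits of truncations.
-/

set_option autoImplicit false
set_option linter.style.haveILetI false
set_option backward.isDefEq.respectTransparency false
set_option backward.isDefEq.respectTransparency.types false

universe u

open CategoryTheory Category Limits Opposite

namespace Groth.Agent.HDU

variable {C : Type u} [SmallCategory C] {J : GrothendieckTopology C} (O : Sheaf J CommRingCat.{u})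
  [HasDerivedCategory.{u} (ModSite.Mod O)]
  (E : DerivedCategory (ModSite.Mod O)) [HasProduct (CohCx.truncTower E)] (B : Set C)
  (hB : ∀ U : C, ∃ (ι : Type u) (Y : ι → C) (f : ∀ i, Y i ⟶ U), Sieve.ofArrows Y f ∈ J U ∧ ∀ i, Y i ∈ B)

include hB

theorem exists_cover_in {V : C} {T : Sieve V} (hT : T ∈ J V) :
    ∃ (ι : Type u) (Y : ι → C) (f : ∀ i, Y i ⟶ V),
      (∀ i, T.arrows (f i)) ∧ Sieve.ofArrows Y f ∈ J V ∧ ∀ i, Y i ∈ B := by
  choose ι Z g hcov hZ using hB
  refine ⟨Σ W : C, Σ a : {a : W ⟶ V // T.arrows a}, ι W, fun p => Z p.1 p.2.2,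
    fun p => g p.1 p.2.2 ≫ p.2.1.1, fun p => T.downward_closed p.2.1.2 _, ?_, fun p => hZ _ _⟩
  refine J.transitive hT _ fun W a ha => J.superset_covering ?_ (hcov W)
  rintro W' b ⟨W'', c, d, ⟨i⟩, rfl⟩
  exact ⟨_, c, _, ⟨(⟨W, ⟨a, ha⟩, i⟩ : Σ W : C, Σ a : {a : W ⟶ V // T.arrows a}, ι W)⟩, (Category.assoc c (g W i) a).symm⟩

theorem isRlimVia_of_vanishing_above_function (p : ℤ → ℤ)
    (h : ∀ V ∈ B, ∀ (m : ℤ) (k : ℕ), p m < k →
      Subsingleton (ModSite.HU O ((DerivedCategory.homologyFunctor (ModSite.Mod O) (m - k)).obj E) k V)) :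
    CohCx.IsRlimVia (CohCx.truncTower E) (CohCx.truncTowerMap E) E (CohCx.toTruncTower E) := by
  haveI : IsGrothendieckAbelian.{u} (ModSite.Mod O) := KFlat.isGrothendieck O
  refine isRlimVia_of_locally_bounded (modData O) E B hB fun V _ => ⟨fun m => max (p m) 0, fun T hT => ?_⟩
  obtain ⟨ι, Y, f, hf, hcov, hY⟩ := exists_cover_in B hB hT
  refine ⟨ι, Y, f, hf, hcov, fun i m k hk => ?_⟩
  simp only at hk
  exact modVan O _ k (by omega) (Y i) (h (Y i) (hY i) m k (by omega))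

theorem isRlimVia_of_cofinal_bounded
    (h : ∀ V ∈ B, ∃ d : ℕ, ∀ T ∈ J V, ∃ (ι : Type u) (Y : ι → C) (f : ∀ i, Y i ⟶ V),
      (∀ i, T.arrows (f i)) ∧ Sieve.ofArrows Y f ∈ J V ∧ ∀ (i : ι) (q : ℤ) (k : ℕ), q < 0 → d < k →
        Subsingleton (ModSite.HU O ((DerivedCategory.homologyFunctor (ModSite.Mod O) q).obj E) k (Y i))) :
    CohCx.IsRlimVia (CohCx.truncTower E) (CohCx.truncTowerMap E) E (CohCx.toTruncTower E) := by
  haveI : IsGrothendieckAbelian.{u} (ModSite.Mod O) := KFlat.isGrothendieck O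
  refine isRlimVia_of_locally_bounded (modData O) E B hB fun V hV => ?_
  obtain ⟨d, hd⟩ := h V hV
  refine ⟨fun m => max (d : ℤ) m, fun T hT => ?_⟩
  obtain ⟨ι, Y, f, hf, hcov, hY⟩ := hd T hT
  refine ⟨ι, Y, f, hf, hcov, fun i m k hk => ?_⟩
  simp only at hk
  exact modVan O _ k (by omega) (Y i) (hY i (m - k) k (by omega) (by omega))

end Groth.Agent.HDU
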